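import Cfsg.Agent.Lib.Helper45.PSLAut.Steinberg

/-!
# An automorphism of `PSL_n` normalising all root subgroups is diagonal times field (main step)
-/

set_option autoImplicit false

namespace Cfsg.Agent.Lib.Helper45.PSLAut

open Matrix
open scoped commutatorElement

variable {F : Type*} [Field F] [Finite F] {ι : Type*} [DecidableEq ι] [Fintype ι]

theorem exists_diag_field (h3 : 3 ≤ Fintype.card ι)
    (θ : MulAut (ProjectiveSpecialLinearGroup ι F))
    (hθ : ∀ i j : ι, i ≠ j → ∀ a : F, ∃ b : F, θ (xb i j a) = xb i j b) :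
    ∃ (d : ι → Fˣ) (σ : F ≃+* F), θ = descend (conjGL (diagGL d)) * descend (fieldAut σ) := by
  have hθ' : ∀ (i j : ι) (a : F), ∃ b : F, i ≠ j → θ (xb i j a) = xb i j b := by
    intro i j a
    by_cases hij : i = j
    · exact ⟨0, fun h => absurd hij h⟩
    · obtain ⟨b, hb⟩ := hθ i j hij a
      exact ⟨b, fun _ => hb⟩
  choose f hf using hθ'
  have third := Cfsg.Agent.Lib.Helper5.exists_ne_ne_of_three_le_card h3
  -- additivity
  have hadd : ∀ i j, i ≠ j → ∀ a b, f i j (a + b) = f i j a + f i j b := by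
    intro i j hij a b
    apply xb_injective h3 hij
    rw [← hf i j _ hij, xb_add hij, map_mul, hf i j _ hij, hf i j _ hij, ← xb_add hij]
  have hinj : ∀ i j, i ≠ j → Function.Injective (f i j) := by
    intro i j hij a b h
    apply xb_injective h3 hij
    apply θ.injective
    rw [hf i j _ hij, hf i j _ hij, h]
  have hzero : ∀ i j, i ≠ j → f i j 0 = 0 := by
    intro i j hij
    have := hadd i j hij 0 0
    rw [add_zero] at this
    exact left_eq_add.mp this
  have hmul : ∀ i j k, i ≠ j → i ≠ k → k ≠ j → ∀ a b, f i j (a * b) = f i k a * f k j b := by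
    intro i j k hij hik hkj a b
    apply xb_injective h3 hij
    rw [← hf i j _ hij, ← xb_commutator hij hik hkj, map_commutatorElement, hf i k _ hik, hf k j _ hkj,
      xb_commutator hij hik hkj]
  set c : ι → ι → F := fun i j => f i j 1 with hc
  have hc0 : ∀ i j, i ≠ j → c i j ≠ 0 := by
    intro i j hij h
    exact one_ne_zero (hinj i j hij (h.trans (hzero i j hij).symm))
  have hcmul : ∀ i j k, i ≠ j → i ≠ k → k ≠ j → c i j = c i k * c k j := by
    intro i j k hij hik hkj
    have := hmul i j k hij hik hkj 1 1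
    rwa [mul_one] at this
  set S : ι → ι → F → F := fun i j a => f i j a / c i j with hS
  have hSmul : ∀ i j k, i ≠ j → i ≠ k → k ≠ j → ∀ a b, S i j (a * b) = S i k a * S k j b := by
    intro i j k hij hik hkj a b
    simp only [hS]
    rw [hmul i j k hij hik hkj, hcmul i j k hij hik hkj, mul_div_mul_comm]
  have hS1 : ∀ i j, i ≠ j → S i j 1 = 1 := fun i j hij => div_self (hc0 i j hij)
  have hrow : ∀ i j k, i ≠ j → i ≠ k → ∀ a, S i j a = S i k a := by
    intro i j k hij hik a
    by_cases hkj : k = j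
    · rw [hkj]
    · have := hSmul i j k hij hik hkj a 1
      rwa [mul_one, hS1 k j hkj, mul_one] at this
  have hcol : ∀ i j k, i ≠ j → k ≠ j → ∀ b, S i j b = S k j b := by
    intro i j k hij hkj b
    by_cases hik : i = k
    · rw [hik]
    · have := hSmul i j k hij hik hkj 1 b
      rwa [one_mul, hS1 i k hik, one_mul] at this
  have hall : ∀ i j i' j', i ≠ j → i' ≠ j' → ∀ a, S i j a = S i' j' a := by
    intro i j i' j' hij hij' a
    obtain ⟨k, hki, hki'⟩ := third i i'
    rw [hrow i j k hij (Ne.symm hki), hcol i k i' (Ne.symm hki) (Ne.symm hki'),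
      hrow i' k j' (Ne.symm hki') hij']
  obtain ⟨i₀⟩ : Nonempty ι := Fintype.card_pos_iff.mp (by omega)
  obtain ⟨j₀, hj₀, -⟩ := third i₀ i₀
  have hij₀ : i₀ ≠ j₀ := Ne.symm hj₀
  -- the field automorphism
  have hσmul : ∀ a b, S i₀ j₀ (a * b) = S i₀ j₀ a * S i₀ j₀ b := by
    intro a b
    obtain ⟨k, hki, hkj⟩ := third i₀ j₀
    rw [hSmul i₀ j₀ k hij₀ (Ne.symm hki) hkj, hall i₀ k i₀ j₀ (Ne.symm hki) hij₀,
      hall k j₀ i₀ j₀ hkj hij₀]
  have hσadd : ∀ a b, S i₀ j₀ (a + b) = S i₀ j₀ a + S i₀ j₀ b := by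
    intro a b
    simp only [hS]
    rw [hadd i₀ j₀ hij₀, add_div]
  let σ₀ : F →+* F :=
    { toFun := S i₀ j₀
      map_one' := hS1 i₀ j₀ hij₀
      map_mul' := hσmul
      map_zero' := by simp only [hS]; rw [hzero i₀ j₀ hij₀, zero_div]
      map_add' := hσadd }
  have hσinj : Function.Injective σ₀ := σ₀.injective
  have hσbij : Function.Bijective σ₀ := ⟨hσinj, Finite.injective_iff_surjective.mp hσinj⟩
  let σ : F ≃+* F := RingEquiv.ofBijective σ₀ hσbij
  have hσ : ∀ i j, i ≠ j → ∀ a, f i j a = c i j * σ a := by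
    intro i j hij a
    show f i j a = c i j * S i₀ j₀ a
    rw [← hall i j i₀ j₀ hij hij₀]
    simp only [hS]
    rw [mul_div_cancel₀ _ (hc0 i j hij)]
  -- the diagonal matrix
  have hcinv : ∀ j, j ≠ i₀ → c i₀ j * c j i₀ = 1 := by
    intro j hj
    obtain ⟨k, hki, hkj⟩ := third i₀ j
    have h1 := hcmul i₀ k j (Ne.symm hki) (Ne.symm hj) (Ne.symm hkj)
    have h2 := hcmul j k i₀ (Ne.symm hkj) hj (Ne.symm hki)
    rw [h2, ← mul_assoc] at h1
    have h0 := hc0 i₀ k (Ne.symm hki)
    have : c i₀ k * 1 = c i₀ k * (c i₀ j * c j i₀) := by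
      rw [mul_one]
      calc c i₀ k = c i₀ j * c j i₀ * c i₀ k := h1
        _ = c i₀ k * (c i₀ j * c j i₀) := by ring
    exact (mul_left_cancel₀ h0 this).symm
  let d : ι → Fˣ := fun i => if h : i = i₀ then 1 else Units.mk0 (c i i₀) (hc0 i i₀ h)
  have hd0 : (d i₀ : F) = 1 := by simp [d]
  have hd : ∀ i, i ≠ i₀ → (d i : F) = c i i₀ := by
    intro i hi
    simp [d, hi]
  have hcd : ∀ i j, i ≠ j → c i j = (d i : F) * ((d j)⁻¹ : Fˣ) := by
    intro i j hij
    rw [Units.val_inv_eq_inv_val]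
    by_cases hj : j = i₀
    · subst hj
      rw [hd0, inv_one, mul_one, hd i hij]
    · by_cases hi : i = i₀
      · subst hi
        rw [hd0, one_mul, hd j hj]
        exact eq_inv_of_mul_eq_one_left (hcinv j hj)
      · rw [hd i hi, hd j hj, hcmul i j i₀ hij hi (Ne.symm hj)]
        congr 1
        exact eq_inv_of_mul_eq_one_left (hcinv j hj)
  refine ⟨d, σ, ?_⟩
  apply mulAut_ext_xb
  intro i j hij a
  rw [MulAut.mul_apply, descend_fieldAut_xb σ hij, descend_conjGL_diagGL_xb d hij, hf i j a hij,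
    hσ i j hij, hcd i j hij]
  congr 1
  ring

end Cfsg.Agent.Lib.Helper45.PSLAut
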