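import Cfsg.Agent.Lib.Helper45.PSLAut.SylowT2
import Cfsg.Agent.Lib.Helper45.PSLAut.Steinberg2

/-!
# The automorphisms of `PSL_n(F)`, `n ≥ 3`, `F` finite (Schreier–van der Waerden)
-/

set_option autoImplicit false

namespace Cfsg.Agent.Lib.Helper45.PSLAut

open Matrix

variable {F : Type*} [Field F] {m : ℕ}

theorem iotaBar_mul_iotaBar {ι : Type*} [DecidableEq ι] [Fintype ι] :
    (iotaBar : MulAut (ProjectiveSpecialLinearGroup ι F)) * iotaBar = 1 := by
  rw [iotaBar, ← map_mul, invT_mul_invT, map_one]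

/-- A type-preserving automorphism is inner-diagonal times field. -/
theorem exists_decomp_of_typePres {ι : Type*} [DecidableEq ι] [Fintype ι] [Finite F]
    (h3 : 3 ≤ Fintype.card ι) (β : MulAut (ProjectiveSpecialLinearGroup ι F)) (hβ : TypePres β) :
    ∃ (g : GL ι F) (σ : F ≃+* F), β = descend (conjGL g) * descend (fieldAut σ) := by
  obtain ⟨g, hg⟩ := exists_frame h3 β hβ
  have hθ : ∀ i j : ι, i ≠ j → ∀ a : F, ∃ b : F,
      ((descend (conjGL g))⁻¹ * β) (xb i j a) = xb i j b := by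
    intro i j hij a
    obtain ⟨b, hb⟩ := hg i j hij a
    refine ⟨b, ?_⟩
    rw [MulAut.mul_apply, hb, ← MulAut.mul_apply, inv_mul_cancel, MulAut.one_apply]
  obtain ⟨d, σ, hdσ⟩ := exists_diag_field h3 _ hθ
  refine ⟨g * diagGL d, σ, ?_⟩
  rw [conjGL_mul, map_mul, mul_assoc, ← hdσ, mul_inv_cancel_left]

/-- **Schreier–van der Waerden**: every automorphism of `PSL_n(F)` (`n ≥ 3`, `F` finite) is the
product of an inner-diagonal automorphism, a field automorphism, and possibly the inverse-transpose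
automorphism. -/
theorem exists_decomp [Fintype F] {p f : ℕ} [Fact p.Prime] (hF : Fintype.card F = p ^ f) (hf : 1 ≤ f)
    (hm : 2 ≤ m) (β : MulAut (ProjectiveSpecialLinearGroup (Fin (m + 1)) F)) :
    ∃ (g : GL (Fin (m + 1)) F) (σ : F ≃+* F),
      β = descend (conjGL g) * descend (fieldAut σ) ∨
        β = descend (conjGL g) * descend (fieldAut σ) * iotaBar := by
  have hT := autPresT hF hf hm
  have h3 := card3 hm
  rcases typePres_or h3 hT β with h | h
  · obtain ⟨g, σ, hgσ⟩ := exists_decomp_of_typePres h3 β h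
    exact ⟨g, σ, Or.inl hgσ⟩
  · obtain ⟨g, σ, hgσ⟩ := exists_decomp_of_typePres h3 _ h
    refine ⟨g, σ, Or.inr ?_⟩
    rw [← hgσ, mul_assoc, iotaBar_mul_iotaBar, mul_one]

end Cfsg.Agent.Lib.Helper45.PSLAut
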