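import Cfsg.Agent.Lib.Helper45.PSLAut.Par

/-!
# Maximal subgroups of transvections in `PSL_n`
-/

set_option autoImplicit false

namespace Cfsg.Agent.Lib.Helper45.PSLAut

open Matrix

variable {F : Type*} [Field F] {ι : Type*} [DecidableEq ι] [Fintype ι]

/-- All transvections with centre `v`. -/
noncomputable def Acen (v : ι → F) : Subgroup (ProjectiveSpecialLinearGroup ι F) where
  carrier := {x | ∃ φ : ι → F, φ ⬝ᵥ v = 0 ∧ x = tb v φ}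
  one_mem' := ⟨0, by simp, (tb_zero_right v).symm⟩
  mul_mem' := by
    rintro _ _ ⟨φ, h1, rfl⟩ ⟨ψ, h2, rfl⟩
    exact ⟨φ + ψ, by rw [add_dotProduct, h1, h2, add_zero], tb_mul_same_left h1 h2⟩
  inv_mem' := by
    rintro _ ⟨φ, h1, rfl⟩
    exact ⟨-φ, by rw [neg_dotProduct, h1, neg_zero], tb_inv h1⟩

/-- All transvections with axis `φ`. -/
noncomputable def Aax (φ : ι → F) : Subgroup (ProjectiveSpecialLinearGroup ι F) where
  carrier := {x | ∃ v : ι → F, φ ⬝ᵥ v = 0 ∧ x = tb v φ}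
  one_mem' := ⟨0, by simp, (tb_zero_left φ).symm⟩
  mul_mem' := by
    rintro _ _ ⟨v, h1, rfl⟩ ⟨w, h2, rfl⟩
    exact ⟨v + w, by rw [dotProduct_add, h1, h2, add_zero], tb_mul_same_right h1 h2⟩
  inv_mem' := by
    rintro _ ⟨v, h1, rfl⟩
    refine ⟨(-1 : F) • v, by rw [dotProduct_smul, h1, smul_zero], ?_⟩
    rw [tb_inv h1, tb_smul_left, neg_one_smul]

theorem mem_Acen {v : ι → F} {x : ProjectiveSpecialLinearGroup ι F} :
    x ∈ Acen v ↔ ∃ φ : ι → F, φ ⬝ᵥ v = 0 ∧ x = tb v φ := Iff.rfl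

theorem mem_Aax {φ : ι → F} {x : ProjectiveSpecialLinearGroup ι F} :
    x ∈ Aax φ ↔ ∃ v : ι → F, φ ⬝ᵥ v = 0 ∧ x = tb v φ := Iff.rfl

/-- A subgroup all of whose nontrivial elements are transvections. -/
def TSub (A : Subgroup (ProjectiveSpecialLinearGroup ι F)) : Prop := ∀ x ∈ A, x = 1 ∨ IsTb x

theorem tsub_Acen {v : ι → F} (hv : v ≠ 0) : TSub (Acen v) := by
  rintro _ ⟨φ, h, rfl⟩
  by_cases hφ : φ = 0
  · left
    rw [hφ, tb_zero_right]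
  · right
    exact ⟨v, φ, hv, hφ, h, rfl⟩

theorem tsub_Aax {φ : ι → F} (hφ : φ ≠ 0) : TSub (Aax φ) := by
  rintro _ ⟨v, h, rfl⟩
  by_cases hv : v = 0
  · left
    rw [hv, tb_zero_left]
  · right
    exact ⟨v, φ, hv, hφ, h, rfl⟩

theorem tb_mem_Acen_of_par {v w ψ : ι → F} (hv : v ≠ 0) (h2 : ψ ⬝ᵥ w = 0) (h : Par v w) :
    tb w ψ ∈ Acen v := by
  obtain ⟨c, rfl⟩ := h.exists_smul hv
  refine ⟨c • ψ, ?_, tb_smul_left c v ψ⟩
  rw [smul_dotProduct]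
  rw [dotProduct_smul] at h2
  exact h2

theorem tb_mem_Aax_of_par {φ w ψ : ι → F} (hφ : φ ≠ 0) (h2 : ψ ⬝ᵥ w = 0) (h : Par φ ψ) :
    tb w ψ ∈ Aax φ := by
  obtain ⟨c, rfl⟩ := h.exists_smul hφ
  refine ⟨c • w, ?_, (tb_smul_left c w φ).symm⟩
  rw [dotProduct_smul]
  rw [smul_dotProduct] at h2
  exact h2

theorem exists_ne_zero_vec (h3 : 3 ≤ Fintype.card ι) : ∃ v : ι → F, v ≠ 0 := by
  have : Nonempty ι := Fintype.card_pos_iff.mp (by omega)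
  obtain ⟨i⟩ := this
  refine ⟨Pi.single i 1, ?_⟩
  intro h
  have := congrFun h i
  simp at this

/-- **Clique lemma**: a subgroup consisting of transvections has a common centre or a common
axis. -/
theorem tsub_le (h3 : 3 ≤ Fintype.card ι) {A : Subgroup (ProjectiveSpecialLinearGroup ι F)}
    (hA : TSub A) : (∃ v : ι → F, v ≠ 0 ∧ A ≤ Acen v) ∨ (∃ φ : ι → F, φ ≠ 0 ∧ A ≤ Aax φ) := by
  by_cases hbot : A = ⊥
  · obtain ⟨v, hv⟩ := exists_ne_zero_vec (F := F) h3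
    left
    refine ⟨v, hv, ?_⟩
    rw [hbot]
    exact bot_le
  obtain ⟨x₀, hx₀, hx₀1⟩ : ∃ x ∈ A, x ≠ 1 := by
    by_contra hcon
    push Not at hcon
    exact hbot ((Subgroup.eq_bot_iff_forall _).mpr hcon)
  obtain ⟨v, φ, hv, hφ, h1, rfl⟩ := (hA x₀ hx₀).resolve_left hx₀1
  by_cases hall : A ≤ Acen v
  · exact Or.inl ⟨v, hv, hall⟩
  right
  refine ⟨φ, hφ, ?_⟩
  obtain ⟨y₁, hy₁, hy₁v⟩ := SetLike.not_le_iff_exists.mp hall
  have hy₁1 : y₁ ≠ 1 := fun h => hy₁v (h ▸ one_mem _)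
  obtain ⟨w₁, ψ₁, hw₁, hψ₁, h2, rfl⟩ := (hA y₁ hy₁).resolve_left hy₁1
  have hnp : ¬ Par v w₁ := fun h => hy₁v (tb_mem_Acen_of_par hv h2 h)
  have hp1 : Par φ ψ₁ :=
    ((mul_isTb_iff h3 hv hφ h1 hw₁ hψ₁ h2).mp (hA _ (mul_mem hx₀ hy₁))).resolve_left hnp
  intro y hy
  by_cases hy1 : y = 1
  · rw [hy1]
    exact one_mem _
  obtain ⟨w, ψ, hw, hψ, h3', rfl⟩ := (hA y hy).resolve_left hy1
  rcases (mul_isTb_iff h3 hv hφ h1 hw hψ h3').mp (hA _ (mul_mem hx₀ hy)) with h | h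
  · rcases (mul_isTb_iff h3 hw₁ hψ₁ h2 hw hψ h3').mp (hA _ (mul_mem hy₁ hy)) with h' | h'
    · exact absurd (h.trans h'.symm hw) hnp
    · exact tb_mem_Aax_of_par hφ h3' (hp1.trans h' hψ₁)
  · exact tb_mem_Aax_of_par hφ h3' h

/-! ### Duality -/

/-- The duality automorphism of `PSL`. -/
noncomputable def iotaBar : MulAut (ProjectiveSpecialLinearGroup ι F) := descend invT

theorem iotaBar_tb {v φ : ι → F} (h : φ ⬝ᵥ v = 0) : iotaBar (tb v φ) = tb (-φ) v := by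
  rw [iotaBar, tb, descend_mk, invT_tv h, tb]

theorem iotaBar_iotaBar (x : ProjectiveSpecialLinearGroup ι F) : iotaBar (iotaBar x) = x := by
  have : (iotaBar : MulAut (ProjectiveSpecialLinearGroup ι F)) * iotaBar = 1 := by
    rw [iotaBar, ← map_mul, invT_mul_invT, map_one]
  exact congrArg (fun f : MulAut (ProjectiveSpecialLinearGroup ι F) => f x) this

theorem map_iotaBar_Acen (v : ι → F) :
    (Acen v).map (iotaBar : MulAut (ProjectiveSpecialLinearGroup ι F)).toMonoidHom = Aax v := by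
  ext x
  constructor
  · rintro ⟨_, ⟨φ, h, rfl⟩, rfl⟩
    refine ⟨-φ, by rw [dotProduct_neg, dotProduct_comm, h, neg_zero], ?_⟩
    exact iotaBar_tb h
  · rintro ⟨w, h, rfl⟩
    refine ⟨iotaBar (tb w v), ?_, iotaBar_iotaBar _⟩
    rw [iotaBar_tb h]
    refine ⟨(-1 : F) • w, by rw [smul_dotProduct, dotProduct_comm, h, smul_zero], ?_⟩
    rw [← tb_smul_left, neg_one_smul]

theorem map_iotaBar_Aax (φ : ι → F) :
    (Aax φ).map (iotaBar : MulAut (ProjectiveSpecialLinearGroup ι F)).toMonoidHom = Acen φ := by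
  rw [← map_iotaBar_Acen, Subgroup.map_map]
  have : (iotaBar : MulAut (ProjectiveSpecialLinearGroup ι F)).toMonoidHom.comp
      (iotaBar : MulAut (ProjectiveSpecialLinearGroup ι F)).toMonoidHom = MonoidHom.id _ :=
    MonoidHom.ext fun x => iotaBar_iotaBar x
  rw [this, Subgroup.map_id]

theorem map_le_map_iff_of_mulAut (α : MulAut (ProjectiveSpecialLinearGroup ι F))
    {A B : Subgroup (ProjectiveSpecialLinearGroup ι F)} :
    A.map α.toMonoidHom ≤ B.map α.toMonoidHom ↔ A ≤ B :=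
  Subgroup.map_le_map_iff_of_injective α.injective

/-! ### Comparison of the maximal subgroups -/

omit [DecidableEq ι] in
theorem exists_form_zero (h3 : 3 ≤ Fintype.card ι) (v : ι → F) :
    ∃ φ : ι → F, φ ≠ 0 ∧ φ ⬝ᵥ v = 0 := by
  obtain ⟨x, hx, h, -⟩ := exists_common_zero h3 v v
  exact ⟨x, hx, by rw [dotProduct_comm, h]⟩

theorem exists_two_forms_zero (h3 : 3 ≤ Fintype.card ι) (v : ι → F) :
    ∃ φ₁ φ₂ : ι → F, φ₁ ⬝ᵥ v = 0 ∧ φ₂ ⬝ᵥ v = 0 ∧ ¬ Par φ₁ φ₂ := by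
  obtain ⟨x₁, hx₁, h1⟩ := exists_form_zero h3 v
  obtain ⟨i, hi⟩ := Function.ne_iff.mp hx₁
  simp only [Pi.zero_apply] at hi
  obtain ⟨x₂, hx₂, h2, h2'⟩ := exists_common_zero h3 v (Pi.single i (1 : F))
  refine ⟨x₁, x₂, h1, by rw [dotProduct_comm, h2], ?_⟩
  intro hpar
  obtain ⟨c, rfl⟩ := hpar.exists_smul hx₁
  rw [single_dotProduct, one_mul, Pi.smul_apply, smul_eq_mul] at h2'
  rcases mul_eq_zero.mp h2' with h | h
  · apply hx₂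
    rw [h, zero_smul]
  · exact hi h

theorem par_of_Acen_le (h3 : 3 ≤ Fintype.card ι) {v w : ι → F}
    (h : Acen v ≤ Acen w) : Par v w := by
  obtain ⟨φ, hφ, h1⟩ := exists_form_zero h3 v
  obtain ⟨ψ, h2, he⟩ := h ⟨φ, h1, rfl⟩
  have := (tv_eq_tv_iff h1 h2).mp (tv_eq_of_tb_eq h3 h1 h2 he)
  exact par_of_vecMulVec_eq this hφ

theorem Acen_eq_of_par {v w : ι → F} (hv : v ≠ 0) (hw : w ≠ 0) (h : Par v w) : Acen v = Acen w := by
  apply le_antisymm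
  · rintro _ ⟨φ, h1, rfl⟩
    exact tb_mem_Acen_of_par hw h1 h.symm
  · rintro _ ⟨φ, h1, rfl⟩
    exact tb_mem_Acen_of_par hv h1 h

theorem not_Acen_le_Aax (h3 : 3 ≤ Fintype.card ι) {v φ : ι → F} (hv : v ≠ 0) :
    ¬ Acen v ≤ Aax φ := by
  intro h
  obtain ⟨φ₁, φ₂, h1, h2, hnp⟩ := exists_two_forms_zero h3 v
  obtain ⟨w₁, hw₁, he₁⟩ := h ⟨φ₁, h1, rfl⟩
  obtain ⟨w₂, hw₂, he₂⟩ := h ⟨φ₂, h2, rfl⟩
  have e1 := (tv_eq_tv_iff h1 hw₁).mp (tv_eq_of_tb_eq h3 h1 hw₁ he₁)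
  have e2 := (tv_eq_tv_iff h2 hw₂).mp (tv_eq_of_tb_eq h3 h2 hw₂ he₂)
  have p1 := par_of_vecMulVec_eq' e1 hv
  have p2 := par_of_vecMulVec_eq' e2 hv
  by_cases hφ : φ = 0
  · apply hnp
    have : φ₁ = 0 := by
      have : vecMulVec v φ₁ = 0 := by rw [e1, hφ, vecMulVec_zero]
      exact (vecMulVec_eq_zero_iff.mp this).resolve_left hv
    intro i j
    rw [this]
    simp
  · exact hnp (p1.trans p2.symm hφ)

theorem Acen_ne_Aax (h3 : 3 ≤ Fintype.card ι) {v φ : ι → F} (hv : v ≠ 0) : Acen v ≠ Aax φ :=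
  fun h => not_Acen_le_Aax h3 hv (le_of_eq h)

theorem par_of_Aax_le (h3 : 3 ≤ Fintype.card ι) {φ ψ : ι → F}
    (h : Aax φ ≤ Aax ψ) : Par φ ψ := by
  apply par_of_Acen_le h3
  rw [← map_iotaBar_Aax, ← map_iotaBar_Aax]
  exact (map_le_map_iff_of_mulAut _).mpr h

theorem Aax_eq_of_par {φ ψ : ι → F} (hφ : φ ≠ 0) (hψ : ψ ≠ 0) (h : Par φ ψ) : Aax φ = Aax ψ := by
  rw [← map_iotaBar_Acen, ← map_iotaBar_Acen, Acen_eq_of_par hφ hψ h]

theorem not_Aax_le_Acen (h3 : 3 ≤ Fintype.card ι) {v φ : ι → F} (hφ : φ ≠ 0) :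
    ¬ Aax φ ≤ Acen v := by
  intro h
  have := (map_le_map_iff_of_mulAut iotaBar).mpr h
  rw [map_iotaBar_Aax, map_iotaBar_Acen] at this
  exact not_Acen_le_Aax h3 hφ this

/-! ### Intersections -/

theorem Acen_inf_Acen (h3 : 3 ≤ Fintype.card ι) {v w : ι → F} (h : ¬ Par v w) :
    Acen v ⊓ Acen w = ⊥ := by
  rw [Subgroup.eq_bot_iff_forall]
  rintro x ⟨⟨φ, h1, rfl⟩, ⟨ψ, h2, he⟩⟩
  have e := (tv_eq_tv_iff h1 h2).mp (tv_eq_of_tb_eq h3 h1 h2 he)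
  by_cases hφ : φ = 0
  · rw [hφ, tb_zero_right]
  · exact absurd (par_of_vecMulVec_eq e hφ) h

theorem Aax_inf_Aax (h3 : 3 ≤ Fintype.card ι) {φ ψ : ι → F} (h : ¬ Par φ ψ) :
    Aax φ ⊓ Aax ψ = ⊥ := by
  have inj : Function.Injective (iotaBar : MulAut (ProjectiveSpecialLinearGroup ι F)).toMonoidHom :=
    (iotaBar : MulAut (ProjectiveSpecialLinearGroup ι F)).injective
  have key : (Aax φ ⊓ Aax ψ).map (iotaBar : MulAut (ProjectiveSpecialLinearGroup ι F)).toMonoidHom = ⊥ := by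
    rw [Subgroup.map_inf _ _ _ inj, map_iotaBar_Aax, map_iotaBar_Aax]
    exact Acen_inf_Acen h3 h
  exact (Subgroup.map_eq_bot_iff_of_injective _ inj).mp key

theorem mem_Acen_inf_Aax (h3 : 3 ≤ Fintype.card ι) {v φ : ι → F} (hv : v ≠ 0) (hφ : φ ≠ 0)
    {x : ProjectiveSpecialLinearGroup ι F} (hx : x ∈ Acen v ⊓ Aax φ) :
    ∃ c : F, x = tb v (c • φ) ∧ (c ≠ 0 → φ ⬝ᵥ v = 0) := by
  obtain ⟨⟨φ', h1, rfl⟩, ⟨v', h2, he⟩⟩ := hx
  have e := (tv_eq_tv_iff h1 h2).mp (tv_eq_of_tb_eq h3 h1 h2 he)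
  have p := par_of_vecMulVec_eq' e hv
  obtain ⟨c, rfl⟩ := p.symm.exists_smul hφ
  refine ⟨c, rfl, fun hc => ?_⟩
  rw [smul_dotProduct, smul_eq_mul] at h1
  exact (mul_eq_zero.mp h1).resolve_left hc

theorem Acen_inf_Aax_eq_bot (h3 : 3 ≤ Fintype.card ι) {v φ : ι → F} (hv : v ≠ 0) (hφ : φ ≠ 0)
    (h : φ ⬝ᵥ v ≠ 0) : Acen v ⊓ Aax φ = ⊥ := by
  rw [Subgroup.eq_bot_iff_forall]
  intro x hx
  obtain ⟨c, rfl, hc⟩ := mem_Acen_inf_Aax h3 hv hφ hx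
  by_cases hc0 : c = 0
  · rw [hc0, zero_smul, tb_zero_right]
  · exact absurd (hc hc0) h

theorem Acen_inf_Aax_ne_bot (h3 : 3 ≤ Fintype.card ι) {v φ : ι → F} (hv : v ≠ 0) (hφ : φ ≠ 0)
    (h : φ ⬝ᵥ v = 0) : Acen v ⊓ Aax φ ≠ ⊥ := by
  intro hbot
  have hmem : tb v φ ∈ Acen v ⊓ Aax φ := ⟨⟨φ, h, rfl⟩, ⟨v, h, rfl⟩⟩
  rw [hbot, Subgroup.mem_bot, tb_eq_one_iff h3 h] at hmem
  rcases hmem with h | h
  · exact hv h
  · exact hφ h

end Cfsg.Agent.Lib.Helper45.PSLAut
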