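import Cfsg.Agent.Lib.Helper45.PSLAut.Frame2

/-!
# `GL_n` is transitive on incident point-hyperplane pairs
-/

set_option autoImplicit false

namespace Cfsg.Agent.Lib.Helper45.PSLAut

open Matrix

variable {F : Type*} [Field F] {ι : Type*} [DecidableEq ι] [Fintype ι]

omit [Fintype ι] in
theorem eb_apply (i k : ι) : (eb i : ι → F) k = if k = i then 1 else 0 := by
  rw [eb, Pi.single_apply]

theorem eb_dot (i : ι) (w : ι → F) : (eb i : ι → F) ⬝ᵥ w = w i := by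
  rw [eb, single_dotProduct, one_mul]

theorem dot_eb (i : ι) (w : ι → F) : w ⬝ᵥ (eb i : ι → F) = w i := by
  rw [dotProduct_comm, eb_dot]

theorem exists_GL_mulVec_eb (i₀ : ι) (w : ι → F) (hw : w ≠ 0) :
    ∃ D : GL ι F, (D : Matrix ι ι F) *ᵥ eb i₀ = w ∧
      ∀ j₀, j₀ ≠ i₀ → w j₀ = 0 → (eb j₀ : ι → F) ᵥ* (D : Matrix ι ι F) = eb j₀ := by
  by_cases h0 : w i₀ = 0
  · obtain ⟨k, hk⟩ := Function.ne_iff.mp hw
    simp only [Pi.zero_apply] at hk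
    have hki : k ≠ i₀ := fun h => hk (h ▸ h0)
    have hd1 : (tvMat w (eb i₀)).det ≠ 0 := by
      rw [det_tvMat, eb_dot, h0, add_zero]
      exact one_ne_zero
    have hd2 : (tvMat ((-(w k)⁻¹) • eb i₀) (eb k : ι → F)).det ≠ 0 := by
      rw [det_tvMat, dotProduct_smul, eb_dot_eb_of_ne hki, smul_zero, add_zero]
      exact one_ne_zero
    refine ⟨GeneralLinearGroup.mkOfDetNeZero _ hd2 * GeneralLinearGroup.mkOfDetNeZero _ hd1, ?_, ?_⟩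
    · show (tvMat ((-(w k)⁻¹) • eb i₀) (eb k : ι → F) * tvMat w (eb i₀)) *ᵥ eb i₀ = w
      rw [← mulVec_mulVec, tvMat_mulVec, tvMat_mulVec, eb_dot_eb, if_pos rfl, one_smul, dotProduct_add,
        eb_dot_eb_of_ne hki, zero_add, eb_dot, smul_smul, mul_neg, mul_inv_cancel₀ hk]
      simp
    · intro j₀ hj₀ hwj
      show (eb j₀ : ι → F) ᵥ* (tvMat ((-(w k)⁻¹) • eb i₀) (eb k : ι → F) * tvMat w (eb i₀)) = eb j₀
      have e1 : (eb j₀ : ι → F) ᵥ* tvMat ((-(w k)⁻¹) • eb i₀) (eb k : ι → F) = eb j₀ := by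
        rw [vecMul_tvMat, dotProduct_smul, eb_dot_eb_of_ne hj₀, smul_zero, zero_smul, add_zero]
      rw [← vecMul_vecMul, e1, vecMul_tvMat, eb_dot, hwj, zero_smul, add_zero]
  · have hd : (tvMat (w - eb i₀) (eb i₀ : ι → F)).det ≠ 0 := by
      rw [det_tvMat, dotProduct_sub, eb_dot, eb_dot_eb, if_pos rfl]
      simpa using h0
    refine ⟨GeneralLinearGroup.mkOfDetNeZero _ hd, ?_, ?_⟩
    · show tvMat (w - eb i₀) (eb i₀ : ι → F) *ᵥ eb i₀ = w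
      rw [tvMat_mulVec, eb_dot_eb, if_pos rfl, one_smul]
      abel
    · intro j₀ hj₀ hwj
      show (eb j₀ : ι → F) ᵥ* tvMat (w - eb i₀) (eb i₀ : ι → F) = eb j₀
      rw [vecMul_tvMat, dotProduct_sub, eb_dot, hwj, eb_dot_eb_of_ne hj₀, sub_zero, zero_smul, add_zero]

theorem gl_inv_mulVec_cancel (g : GL ι F) (x : ι → F) :
    ((g⁻¹ : GL ι F) : Matrix ι ι F) *ᵥ ((g : Matrix ι ι F) *ᵥ x) = x := by
  rw [mulVec_mulVec, gl_inv_mul, one_mulVec]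

theorem gl_vecMul_inv_cancel (g : GL ι F) (y : ι → F) :
    (y ᵥ* (g : Matrix ι ι F)) ᵥ* ((g⁻¹ : GL ι F) : Matrix ι ι F) = y := by
  rw [vecMul_vecMul, gl_mul_inv, vecMul_one]

theorem gl_vecMul_inv_cancel' (g : GL ι F) (y : ι → F) :
    (y ᵥ* ((g⁻¹ : GL ι F) : Matrix ι ι F)) ᵥ* (g : Matrix ι ι F) = y := by
  rw [vecMul_vecMul, gl_inv_mul, vecMul_one]

/-- `GL_n` is transitive on incident point-hyperplane pairs. -/
theorem exists_GL_flag {i₀ j₀ : ι} (hij : i₀ ≠ j₀) {v φ : ι → F} (hv : v ≠ 0) (hφ : φ ≠ 0)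
    (h : φ ⬝ᵥ v = 0) :
    ∃ g : GL ι F, (g : Matrix ι ι F) *ᵥ eb i₀ = v ∧
      (eb j₀ : ι → F) ᵥ* ((g⁻¹ : GL ι F) : Matrix ι ι F) = φ := by
  obtain ⟨A, hA, -⟩ := exists_GL_mulVec_eb i₀ v hv
  set φ' : ι → F := φ ᵥ* (A : Matrix ι ι F) with hφ'
  have hφ'0 : φ' i₀ = 0 := by
    rw [← dot_eb i₀ φ', hφ', ← dotProduct_mulVec, hA, h]
  have hφ'ne : φ' ≠ 0 := by
    intro h0
    apply hφ
    rw [← gl_vecMul_inv_cancel A φ, ← hφ', h0, zero_vecMul]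
  obtain ⟨D, hD, hD'⟩ := exists_GL_mulVec_eb j₀ φ' hφ'ne
  have hD'' := hD' i₀ hij hφ'0
  have hCdet : ((D : Matrix ι ι F)ᵀ).det ≠ 0 := by
    rw [det_transpose]
    exact (Matrix.GeneralLinearGroup.det_ne_zero D)
  let C : GL ι F := GeneralLinearGroup.mkOfDetNeZero _ hCdet
  have hC1 : (eb j₀ : ι → F) ᵥ* (C : Matrix ι ι F) = φ' := by
    show (eb j₀ : ι → F) ᵥ* (D : Matrix ι ι F)ᵀ = φ'
    rw [vecMul_transpose, hD]
  have hC2 : (C : Matrix ι ι F) *ᵥ eb i₀ = eb i₀ := by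
    show (D : Matrix ι ι F)ᵀ *ᵥ eb i₀ = eb i₀
    rw [mulVec_transpose, hD'']
  have hC2' : ((C⁻¹ : GL ι F) : Matrix ι ι F) *ᵥ eb i₀ = eb i₀ := by
    conv_lhs => rw [← hC2]
    exact gl_inv_mulVec_cancel C _
  refine ⟨A * C⁻¹, ?_, ?_⟩
  · rw [Units.val_mul, ← mulVec_mulVec, hC2', hA]
  · rw [_root_.mul_inv_rev, inv_inv, Units.val_mul, ← vecMul_vecMul, hC1, hφ', gl_vecMul_inv_cancel]

/-- Every transvection of `PSL` is the image of a fixed elementary one under conjugation by `GL`. -/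
theorem exists_conjGL_tb {i₀ j₀ : ι} (hij : i₀ ≠ j₀) {v φ : ι → F} (hv : v ≠ 0) (hφ : φ ≠ 0)
    (h : φ ⬝ᵥ v = 0) :
    ∃ g : GL ι F, tb v φ = descend (conjGL g) (tb (eb i₀) (eb j₀)) := by
  obtain ⟨g, hg1, hg2⟩ := exists_GL_flag hij hv hφ h
  refine ⟨g, ?_⟩
  rw [descend_conjGL_tb g (eb_dot_eb_of_ne hij.symm), hg1, hg2]

end Cfsg.Agent.Lib.Helper45.PSLAut
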