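import Cfsg.Agent.Lib.Helper45.PSLAut.Unitri
import Cfsg.Agent.Lib.Helper45.PSLAut.Flag

/-!
# Automorphisms of `PSL_n(F)` preserve transvections (via centres of Sylow subgroups)
-/

set_option autoImplicit false

namespace Cfsg.Agent.Lib.Helper45.PSLAut

open Matrix
open scoped Pointwise

variable {F : Type*} [Field F] [Finite F] {n m : ℕ}

theorem tv_eb_mem_UU {i j : Fin n} (hij : i < j) (a : F) : tv (a • eb i) (eb j) ∈ UU n F := by
  rw [mem_UU]
  intro i' j' hji'
  rw [tv_coe (by rw [dotProduct_smul, eb_dot_eb_of_ne (ne_of_gt hij), smul_zero]), tvMat_apply]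
  have : (a • eb i : Fin n → F) i' * (eb j : Fin n → F) j' = 0 := by
    rw [Pi.smul_apply, eb_apply, eb_apply]
    by_cases h1 : i' = i
    · by_cases h2 : j' = j
      · subst h1 h2
        exact absurd hij (not_lt.mpr hji')
      · rw [if_neg h2, mul_zero]
    · rw [if_neg h1, smul_zero, zero_mul]
  rw [this, add_zero]

omit [Finite F] in
theorem mulVec_eb (M : Matrix (Fin n) (Fin n) F) (i k : Fin n) : (M *ᵥ eb i) k = M k i := by
  rw [eb, mulVec_single_one]
  rfl

omit [Finite F] in
theorem vecMul_eb (M : Matrix (Fin n) (Fin n) F) (j l : Fin n) : ((eb j : Fin n → F) ᵥ* M) l = M j l := by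
  rw [eb, single_one_vecMul]
  rfl

omit [Finite F] in
/-- Entrywise form of commuting with an elementary transvection. -/
theorem comm_entry {z : SpecialLinearGroup (Fin n) F} {i j : Fin n} (hij : i ≠ j)
    (h : z * tv (eb i) (eb j) = tv (eb i) (eb j) * z) (k l : Fin n) :
    (z : Matrix (Fin n) (Fin n) F) k i * (if l = j then 1 else 0) =
      (if k = i then 1 else 0) * (z : Matrix (Fin n) (Fin n) F) j l := by
  have h0 : (eb j : Fin n → F) ⬝ᵥ (eb i) = 0 := eb_dot_eb_of_ne hij.symm
  have h1 := congrArg (fun s : SpecialLinearGroup (Fin n) F => (s : Matrix (Fin n) (Fin n) F)) h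
  simp only [Matrix.SpecialLinearGroup.coe_mul] at h1
  rw [tv_coe h0, tvMat, mul_add, add_mul, mul_one, one_mul] at h1
  have h2 := add_left_cancel h1
  rw [mul_vecMulVec, vecMulVec_mul] at h2
  have h3 := congrFun (congrFun h2 k) l
  rw [vecMulVec_apply, vecMulVec_apply, mulVec_eb, vecMul_eb, eb_apply, eb_apply] at h3
  exact h3

theorem tv_eb_mem_UU' {i j : Fin n} (hij : i < j) : tv (eb i : Fin n → F) (eb j) ∈ UU n F := by
  have := tv_eb_mem_UU (F := F) hij 1
  rwa [one_smul] at this

theorem center_UU (hm : 1 ≤ m) {z : SpecialLinearGroup (Fin (m + 1)) F} (hz : z ∈ UU (m + 1) F)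
    (hc : ∀ u ∈ UU (m + 1) F, z * u = u * z) :
    ∃ a : F, z = tv (a • eb 0) (eb (Fin.last m)) := by
  have h0l : (0 : Fin (m + 1)) ≠ Fin.last m := by
    intro h
    have := congrArg Fin.val h
    simp at this
    omega
  have hzero : ∀ k l : Fin (m + 1), k < l → ¬ (k = 0 ∧ l = Fin.last m) →
      (z : Matrix (Fin (m + 1)) (Fin (m + 1)) F) k l = 0 := by
    intro k l hkl hne
    by_cases hk : k = 0
    · subst hk
      have hl : l ≠ Fin.last m := fun h => hne ⟨rfl, h⟩
      have hl' : l < Fin.last m := lt_of_le_of_ne (Fin.le_last l) hl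
      have := comm_entry (ne_of_lt hl') (hc _ (tv_eb_mem_UU' hl')) 0 (Fin.last m)
      rw [if_pos rfl, mul_one, if_neg (ne_of_lt hkl), zero_mul] at this
      exact this
    · have hk' : (0 : Fin (m + 1)) < k := Fin.pos_iff_ne_zero.mpr hk
      have := comm_entry (ne_of_lt hk') (hc _ (tv_eb_mem_UU' hk')) 0 l
      rw [if_pos rfl, one_mul, if_neg (ne_of_gt hkl), mul_zero] at this
      exact this.symm
  refine ⟨(z : Matrix (Fin (m + 1)) (Fin (m + 1)) F) 0 (Fin.last m), ?_⟩
  apply sl_ext
  rw [tv_coe (by rw [dotProduct_smul, eb_dot_eb_of_ne h0l.symm, smul_zero])]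
  ext k l
  rw [tvMat_apply, Pi.smul_apply, eb_apply, eb_apply, smul_eq_mul]
  by_cases hlk : l ≤ k
  · rw [hz k l hlk]
    by_cases h1 : k = 0
    · by_cases h2 : l = Fin.last m
      · subst h1 h2
        exact absurd (le_antisymm hlk (Fin.zero_le _)) h0l.symm
      · rw [if_neg h2, mul_zero, add_zero]
    · rw [if_neg h1, mul_zero, zero_mul, add_zero]
  · have hkl : k < l := not_le.mp hlk
    by_cases h1 : k = 0 ∧ l = Fin.last m
    · obtain ⟨rfl, rfl⟩ := h1
      rw [if_pos rfl, if_pos rfl, one_apply_ne h0l, mul_one, mul_one, zero_add]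
    · rw [hzero k l hkl h1, one_apply_ne (ne_of_lt hkl)]
      push Not at h1
      by_cases h2 : k = 0
      · rw [if_neg (h1 h2), mul_zero, add_zero]
      · rw [if_neg h2, mul_zero, zero_mul, add_zero]

theorem tv_central_UU (hm : 1 ≤ m) (a : F) {u : SpecialLinearGroup (Fin (m + 1)) F}
    (hu : u ∈ UU (m + 1) F) :
    u * tv (a • eb 0) (eb (Fin.last m)) = tv (a • eb 0) (eb (Fin.last m)) * u := by
  have h0l : (0 : Fin (m + 1)) ≠ Fin.last m := by
    intro h
    have := congrArg Fin.val h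
    simp at this
    omega
  apply sl_ext
  rw [Matrix.SpecialLinearGroup.coe_mul, Matrix.SpecialLinearGroup.coe_mul,
    tv_coe (by rw [dotProduct_smul, eb_dot_eb_of_ne h0l.symm, smul_zero]), tvMat, mul_add, add_mul,
    mul_one, one_mul, mul_vecMulVec, vecMulVec_mul]
  congr 2
  · rw [mulVec_smul]
    congr 1
    ext k
    rw [mulVec_eb, hu k 0 (Fin.zero_le k), eb_apply, one_apply]
  · ext l
    rw [vecMul_eb, hu (Fin.last m) l (Fin.le_last l), eb_apply, one_apply]
    simp only [eq_comm]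

end Cfsg.Agent.Lib.Helper45.PSLAut
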