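import Cfsg.Agent.Lib.Helper45.PSLAut.Basic

/-!
# The unitriangular subgroup of `SL_n(F)` is a Sylow `p`-subgroup
-/

set_option autoImplicit false

namespace Cfsg.Agent.Lib.Helper45.PSLAut

open Matrix

variable {F : Type*} [Field F] {n : ℕ}

/-- Upper unitriangular matrices, as a submonoid of `SL`. -/
def UUm (n : ℕ) (F : Type*) [Field F] : Submonoid (SpecialLinearGroup (Fin n) F) where
  carrier := {s | ∀ i j : Fin n, j ≤ i → (s : Matrix (Fin n) (Fin n) F) i j = (1 : Matrix (Fin n) (Fin n) F) i j}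
  one_mem' := fun i j _ => by rw [Matrix.SpecialLinearGroup.coe_one]
  mul_mem' := by
    intro s t hs ht i j hji
    rw [Matrix.SpecialLinearGroup.coe_mul, mul_apply, Finset.sum_eq_single i]
    · rw [hs i i le_rfl, ht i j hji, one_apply_eq, one_mul]
    · intro k _ hki
      rcases lt_or_gt_of_ne hki with h | h
      · rw [hs i k h.le, one_apply_ne (Ne.symm hki), zero_mul]
      · rw [ht k j (hji.trans h.le), one_apply_ne (ne_of_gt (lt_of_le_of_lt hji h)), mul_zero]
    · intro h
      exact absurd (Finset.mem_univ i) h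

/-- Upper unitriangular matrices, as a subgroup of `SL` (over a finite field). -/
def UU (n : ℕ) (F : Type*) [Field F] [Finite F] : Subgroup (SpecialLinearGroup (Fin n) F) :=
  { UUm n F with
    inv_mem' := by
      intro s hs
      have h1 : s⁻¹ = s ^ (orderOf s - 1) := by
        apply inv_eq_of_mul_eq_one_right
        rw [← pow_succ', Nat.sub_add_cancel (orderOf_pos s), pow_orderOf_eq_one]
      rw [h1]
      exact pow_mem (S := UUm n F) hs _ }

theorem mem_UU [Finite F] {s : SpecialLinearGroup (Fin n) F} :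
    s ∈ UU n F ↔ ∀ i j : Fin n, j ≤ i →
      (s : Matrix (Fin n) (Fin n) F) i j = (1 : Matrix (Fin n) (Fin n) F) i j := Iff.rfl

/-- The matrix with prescribed entries above the diagonal. -/
def uMat (f : (j : Fin n) → (Fin j → F)) : Matrix (Fin n) (Fin n) F :=
  Matrix.of fun i j => if h : i < j then f j ⟨i, h⟩ else if i = j then 1 else 0

theorem uMat_apply_of_le (f : (j : Fin n) → (Fin j → F)) {i j : Fin n} (h : j ≤ i) :
    uMat f i j = (1 : Matrix (Fin n) (Fin n) F) i j := by
  rw [uMat, of_apply, dif_neg (not_lt.mpr h), one_apply]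

theorem det_uMat (f : (j : Fin n) → (Fin j → F)) : (uMat f).det = 1 := by
  rw [det_of_isUpperTriangular]
  · apply Finset.prod_eq_one
    intro i _
    rw [uMat_apply_of_le f le_rfl, one_apply_eq]
  · intro i j hji
    have hji' : j < i := hji
    show uMat f i j = 0
    rw [uMat_apply_of_le f (le_of_lt hji'), one_apply_ne (ne_of_gt hji')]

/-- `U` is in bijection with the families of entries above the diagonal. -/
def UUEquiv [Finite F] : UU n F ≃ ((j : Fin n) → (Fin j → F)) where
  toFun s := fun j i => ((s : SpecialLinearGroup (Fin n) F) : Matrix (Fin n) (Fin n) F) ⟨i, i.2.trans j.2⟩ j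
  invFun f := ⟨⟨uMat f, det_uMat f⟩, fun i j hji => uMat_apply_of_le f hji⟩
  left_inv s := by
    apply Subtype.ext
    apply sl_ext
    ext i j
    show uMat (fun j i => ((s : SpecialLinearGroup (Fin n) F) : Matrix (Fin n) (Fin n) F)
      ⟨i, i.2.trans j.2⟩ j) i j = ((s : SpecialLinearGroup (Fin n) F) : Matrix (Fin n) (Fin n) F) i j
    by_cases h : i < j
    · rw [uMat, of_apply, dif_pos h]
    · rw [uMat_apply_of_le _ (not_lt.mp h), s.2 i j (not_lt.mp h)]
  right_inv f := by
    funext j i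
    show uMat f ⟨i, i.2.trans j.2⟩ j = f j i
    have h : (⟨i, i.2.trans j.2⟩ : Fin n) < j := i.2
    rw [uMat, of_apply, dif_pos h]

theorem card_UU [Fintype F] : Nat.card (UU n F) = ∏ j : Fin n, Fintype.card F ^ (j : ℕ) := by
  classical
  rw [Nat.card_congr (UUEquiv (F := F) (n := n)), Nat.card_eq_fintype_card, Fintype.card_pi]
  apply Finset.prod_congr rfl
  intro j _
  rw [Fintype.card_fun, Fintype.card_fin]

theorem card_GL_eq [Fintype F] :
    Nat.card (GL (Fin n) F) =
      (∏ j : Fin n, Fintype.card F ^ (j : ℕ)) * ∏ j : Fin n, (Fintype.card F ^ (n - (j : ℕ)) - 1) := by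
  rw [card_GL_field, ← Finset.prod_mul_distrib]
  apply Finset.prod_congr rfl
  intro j _
  have : Fintype.card F ^ n = Fintype.card F ^ (j : ℕ) * Fintype.card F ^ (n - (j : ℕ)) := by
    rw [← pow_add, Nat.add_sub_cancel' j.2.le]
  rw [this, Nat.mul_sub_one]

theorem not_dvd_index_UU [Fintype F] {p f : ℕ} [hp : Fact p.Prime] (hF : Fintype.card F = p ^ f)
    (hf : 1 ≤ f) : ¬ p ∣ (UU n F).index := by
  intro hdvd
  have h1 : Nat.card (UU n F) * (UU n F).index = Nat.card (SpecialLinearGroup (Fin n) F) :=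
    Subgroup.card_mul_index _
  have h2 : Nat.card (SpecialLinearGroup (Fin n) F) ∣ Nat.card (GL (Fin n) F) :=
    Subgroup.card_dvd_of_injective _ Matrix.SpecialLinearGroup.toGL_injective
  rw [← h1, card_GL_eq, card_UU] at h2
  have hpos : 0 < ∏ j : Fin n, Fintype.card F ^ (j : ℕ) :=
    Finset.prod_pos fun j _ => pow_pos Fintype.card_pos _
  have h3 := Nat.dvd_of_mul_dvd_mul_left hpos h2
  have h4 := hdvd.trans h3
  obtain ⟨j, -, hj⟩ := (Prime.dvd_finsetProd_iff (Nat.Prime.prime hp.out) _).mp h4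
  have hq : p ∣ Fintype.card F ^ (n - (j : ℕ)) := by
    rw [hF]
    have : n - (j : ℕ) ≠ 0 := by have := j.2; omega
    exact dvd_pow (dvd_pow_self p (by omega)) this
  have hpos' : 1 ≤ Fintype.card F ^ (n - (j : ℕ)) := Nat.one_le_pow _ _ Fintype.card_pos
  have := (Nat.dvd_sub hq hj)
  rw [Nat.sub_sub_self hpos'] at this
  exact hp.out.one_lt.ne' (Nat.dvd_one.mp this)

theorem isPGroup_UU [Fintype F] {p f : ℕ} [Fact p.Prime] (hF : Fintype.card F = p ^ f) :
    IsPGroup p (UU n F) := by
  apply IsPGroup.of_card (n := ∑ j : Fin n, f * (j : ℕ))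
  rw [card_UU, hF, ← Finset.prod_pow_eq_pow_sum]
  apply Finset.prod_congr rfl
  intro j _
  rw [pow_mul]

end Cfsg.Agent.Lib.Helper45.PSLAut
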