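import Mathlib

/-!
# Automorphisms of `PSL_n(F)`: basic objects

Transvections `1 + v φᵀ` in `SL_n`, their images in `PSL_n`, and the three standard kinds of
automorphisms of `SL_n` (conjugation by `GL_n`, field automorphisms, inverse transpose) together
with their descent to `PSL_n`.
-/

set_option autoImplicit false

namespace Cfsg.Agent.Lib.Helper45.PSLAut

open Matrix

variable {F : Type*} [Field F] {ι : Type*} [DecidableEq ι] [Fintype ι]

/-- The matrix `1 + v φᵀ`. -/
def tvMat (v φ : ι → F) : Matrix ι ι F := 1 + vecMulVec v φ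

theorem det_tvMat (v φ : ι → F) : (tvMat v φ).det = 1 + φ ⬝ᵥ v := by
  rw [tvMat, vecMulVec_eq (Fin 1), det_one_add_replicateCol_mul_replicateRow]

omit [Fintype ι] in
theorem tvMat_apply (v φ : ι → F) (i j : ι) :
    tvMat v φ i j = (1 : Matrix ι ι F) i j + v i * φ j := by
  simp [tvMat, vecMulVec_apply]

theorem tvMat_mul_tvMat (v φ w ψ : ι → F) :
    tvMat v φ * tvMat w ψ =
      1 + vecMulVec v φ + vecMulVec w ψ + (φ ⬝ᵥ w) • vecMulVec v ψ := by
  simp only [tvMat, add_mul, mul_add, one_mul, mul_one, vecMulVec_mul_vecMulVec]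
  rw [vecMulVec_smul]
  abel

theorem tvMat_mulVec (v φ x : ι → F) : tvMat v φ *ᵥ x = x + (φ ⬝ᵥ x) • v := by
  ext i
  simp only [tvMat, add_mulVec, one_mulVec, vecMulVec_mulVec, Pi.add_apply, Pi.smul_apply,
    MulOpposite.smul_eq_mul_unop, MulOpposite.unop_op, smul_eq_mul]
  ring

theorem vecMul_tvMat (v φ y : ι → F) : y ᵥ* tvMat v φ = y + (y ⬝ᵥ v) • φ := by
  ext i
  simp only [tvMat, vecMul_add, vecMul_one, vecMul_vecMulVec, Pi.add_apply, Pi.smul_apply]

theorem sl_ext {A B : SpecialLinearGroup ι F} (h : (A : Matrix ι ι F) = (B : Matrix ι ι F)) : A = B :=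
  Subtype.ext h

/-- Auxiliary form of `tv` with a proof argument. -/
def tvAux (v φ : ι → F) (h : φ ⬝ᵥ v = 0) : SpecialLinearGroup ι F :=
  ⟨tvMat v φ, by rw [det_tvMat, h, add_zero]⟩

open Classical in
/-- The transvection `1 + v φᵀ` as an element of `SL` (it is `1` unless `φ ⬝ᵥ v = 0`). -/
noncomputable def tv (v φ : ι → F) : SpecialLinearGroup ι F :=
  if h : φ ⬝ᵥ v = 0 then tvAux v φ h else 1

theorem tv_coe {v φ : ι → F} (h : φ ⬝ᵥ v = 0) :
    ((tv v φ : SpecialLinearGroup ι F) : Matrix ι ι F) = tvMat v φ := by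
  rw [tv, dif_pos h]
  rfl

theorem tv_zero_left (φ : ι → F) : tv (0 : ι → F) φ = 1 := by
  apply sl_ext
  rw [tv_coe (by simp)]
  simp [tvMat]

theorem tv_zero_right (v : ι → F) : tv v (0 : ι → F) = 1 := by
  apply sl_ext
  rw [tv_coe (by simp)]
  simp [tvMat]

theorem tv_mul_same_left {v φ ψ : ι → F} (h1 : φ ⬝ᵥ v = 0) (h2 : ψ ⬝ᵥ v = 0) :
    tv v φ * tv v ψ = tv v (φ + ψ) := by
  apply sl_ext
  rw [Matrix.SpecialLinearGroup.coe_mul, tv_coe h1, tv_coe h2, tv_coe (by rw [add_dotProduct, h1, h2, add_zero]),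
    tvMat_mul_tvMat, h1, zero_smul, add_zero, tvMat, vecMulVec_add, add_assoc]

theorem tv_mul_same_right {v w φ : ι → F} (h1 : φ ⬝ᵥ v = 0) (h2 : φ ⬝ᵥ w = 0) :
    tv v φ * tv w φ = tv (v + w) φ := by
  apply sl_ext
  rw [Matrix.SpecialLinearGroup.coe_mul, tv_coe h1, tv_coe h2, tv_coe (by rw [dotProduct_add, h1, h2, add_zero]),
    tvMat_mul_tvMat, h2, zero_smul, add_zero, tvMat, add_vecMulVec, add_assoc]

theorem tv_smul_left (a : F) (v φ : ι → F) : tv (a • v) φ = tv v (a • φ) := by
  by_cases h : φ ⬝ᵥ v = 0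
  · apply sl_ext
    rw [tv_coe (by rw [dotProduct_smul, h, smul_zero]), tv_coe (by rw [smul_dotProduct, h, smul_zero]),
      tvMat, tvMat, smul_vecMulVec, vecMulVec_smul]
  · by_cases ha : a = 0
    · subst ha
      simp [tv_zero_left, tv_zero_right]
    · rw [tv, tv, dif_neg, dif_neg]
      · rw [smul_dotProduct]
        exact smul_ne_zero ha h
      · rw [dotProduct_smul]
        exact smul_ne_zero ha h

theorem tv_inv {v φ : ι → F} (h : φ ⬝ᵥ v = 0) : (tv v φ)⁻¹ = tv v (-φ) := by
  rw [inv_eq_iff_mul_eq_one, tv_mul_same_left h (by rw [neg_dotProduct, h, neg_zero]), add_neg_cancel,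
    tv_zero_right]

theorem tv_eq_tv_iff {v φ w ψ : ι → F} (h1 : φ ⬝ᵥ v = 0) (h2 : ψ ⬝ᵥ w = 0) :
    tv v φ = tv w ψ ↔ vecMulVec v φ = vecMulVec w ψ := by
  constructor
  · intro h
    have := congrArg (fun s : SpecialLinearGroup ι F => (s : Matrix ι ι F)) h
    simp only [tv_coe h1, tv_coe h2, tvMat] at this
    exact add_left_cancel this
  · intro h
    apply sl_ext
    rw [tv_coe h1, tv_coe h2, tvMat, tvMat, h]

omit [DecidableEq ι] [Fintype ι] in
theorem vecMulVec_eq_zero_iff {v φ : ι → F} : vecMulVec v φ = 0 ↔ v = 0 ∨ φ = 0 := by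
  constructor
  · intro h
    by_contra hcon
    push Not at hcon
    obtain ⟨i, hi⟩ := Function.ne_iff.mp hcon.1
    obtain ⟨j, hj⟩ := Function.ne_iff.mp hcon.2
    have := congrFun (congrFun h i) j
    simp only [vecMulVec_apply, Matrix.zero_apply, mul_eq_zero] at this
    rcases this with h | h
    · exact hi h
    · exact hj h
  · rintro (h | h) <;> simp [h]

theorem tv_eq_one_iff {v φ : ι → F} (h : φ ⬝ᵥ v = 0) : tv v φ = 1 ↔ v = 0 ∨ φ = 0 := by
  rw [← tv_zero_left (0 : ι → F), tv_eq_tv_iff h (by simp), zero_vecMulVec, vecMulVec_eq_zero_iff]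

/-! ### Automorphisms of `SL` -/

theorem gl_inv_mul (g : GL ι F) : ((g⁻¹ : GL ι F) : Matrix ι ι F) * (g : Matrix ι ι F) = 1 := by
  rw [← Units.val_mul, inv_mul_cancel, Units.val_one]

theorem gl_mul_inv (g : GL ι F) : (g : Matrix ι ι F) * ((g⁻¹ : GL ι F) : Matrix ι ι F) = 1 := by
  rw [← Units.val_mul, mul_inv_cancel, Units.val_one]

theorem gl_inv_mul_cancel_left (g : GL ι F) (X : Matrix ι ι F) :
    ((g⁻¹ : GL ι F) : Matrix ι ι F) * ((g : Matrix ι ι F) * X) = X := by
  rw [← Matrix.mul_assoc, gl_inv_mul, Matrix.one_mul]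

theorem gl_mul_inv_cancel_left (g : GL ι F) (X : Matrix ι ι F) :
    (g : Matrix ι ι F) * (((g⁻¹ : GL ι F) : Matrix ι ι F) * X) = X := by
  rw [← Matrix.mul_assoc, gl_mul_inv, Matrix.one_mul]

/-- Conjugation by an invertible matrix, as an endomorphism of `SL`. -/
noncomputable def conjHom (g : GL ι F) : SpecialLinearGroup ι F →* SpecialLinearGroup ι F where
  toFun s := ⟨(g : Matrix ι ι F) * s * ((g⁻¹ : GL ι F) : Matrix ι ι F), by
    rw [det_mul, det_mul, s.det_coe, mul_one, ← det_mul, gl_mul_inv, det_one]⟩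
  map_one' := by
    apply sl_ext
    show (g : Matrix ι ι F) * ((1 : SpecialLinearGroup ι F) : Matrix ι ι F) * ((g⁻¹ : GL ι F) : Matrix ι ι F) = _
    rw [Matrix.SpecialLinearGroup.coe_one, Matrix.mul_one, gl_mul_inv]
  map_mul' s t := by
    apply sl_ext
    show (g : Matrix ι ι F) * ((s * t : SpecialLinearGroup ι F) : Matrix ι ι F) * ((g⁻¹ : GL ι F) : Matrix ι ι F) =
      ((g : Matrix ι ι F) * s * ((g⁻¹ : GL ι F) : Matrix ι ι F)) * ((g : Matrix ι ι F) * t * ((g⁻¹ : GL ι F) : Matrix ι ι F))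
    rw [Matrix.SpecialLinearGroup.coe_mul]
    simp only [Matrix.mul_assoc, gl_inv_mul_cancel_left]

theorem conjHom_coe (g : GL ι F) (s : SpecialLinearGroup ι F) :
    ((conjHom g s : SpecialLinearGroup ι F) : Matrix ι ι F) =
      (g : Matrix ι ι F) * s * ((g⁻¹ : GL ι F) : Matrix ι ι F) := rfl

theorem conjHom_comp (g h : GL ι F) : (conjHom g).comp (conjHom h) = conjHom (g * h) := by
  ext s : 1
  apply sl_ext
  rw [MonoidHom.comp_apply, conjHom_coe, conjHom_coe, conjHom_coe, _root_.mul_inv_rev, Units.val_mul,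
    Units.val_mul]
  simp only [Matrix.mul_assoc]

theorem conjHom_one : conjHom (1 : GL ι F) = MonoidHom.id _ := by
  ext s : 1
  apply sl_ext
  rw [conjHom_coe]
  simp

/-- Conjugation by an invertible matrix, as an automorphism of `SL`. -/
noncomputable def conjGL (g : GL ι F) : MulAut (SpecialLinearGroup ι F) :=
  MonoidHom.toMulEquiv (conjHom g) (conjHom g⁻¹)
    (by rw [conjHom_comp, inv_mul_cancel, conjHom_one])
    (by rw [conjHom_comp, mul_inv_cancel, conjHom_one])

theorem conjGL_coe (g : GL ι F) (s : SpecialLinearGroup ι F) :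
    ((conjGL g s : SpecialLinearGroup ι F) : Matrix ι ι F) =
      (g : Matrix ι ι F) * s * ((g⁻¹ : GL ι F) : Matrix ι ι F) := rfl

theorem conjGL_mul (g h : GL ι F) : conjGL (g * h) = conjGL g * conjGL h := by
  ext s : 1
  have := congrArg (fun f => f s) (conjHom_comp g h)
  exact this.symm

theorem conjGL_one : conjGL (1 : GL ι F) = 1 := by
  ext s : 1
  have := congrArg (fun f => f s) (conjHom_one (F := F) (ι := ι))
  exact this

theorem conjGL_inv (g : GL ι F) : conjGL g⁻¹ = (conjGL g)⁻¹ := by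
  rw [eq_inv_iff_mul_eq_one, ← conjGL_mul, inv_mul_cancel, conjGL_one]

theorem conjGL_tv (g : GL ι F) {v φ : ι → F} (h : φ ⬝ᵥ v = 0) :
    conjGL g (tv v φ) = tv ((g : Matrix ι ι F) *ᵥ v) (φ ᵥ* ((g⁻¹ : GL ι F) : Matrix ι ι F)) := by
  have h' : (φ ᵥ* ((g⁻¹ : GL ι F) : Matrix ι ι F)) ⬝ᵥ ((g : Matrix ι ι F) *ᵥ v) = 0 := by
    rw [← dotProduct_mulVec, mulVec_mulVec, gl_inv_mul, one_mulVec, h]
  apply sl_ext
  rw [conjGL_coe, tv_coe h, tv_coe h', tvMat, tvMat, mul_add, add_mul, mul_one, gl_mul_inv, mul_vecMulVec,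
    vecMulVec_mul]

/-- A field automorphism applied entrywise, as an automorphism of `SL`. -/
noncomputable def fieldAut (σ : F ≃+* F) : MulAut (SpecialLinearGroup ι F) :=
  MonoidHom.toMulEquiv (Matrix.SpecialLinearGroup.map (σ : F →+* F))
    (Matrix.SpecialLinearGroup.map (σ.symm : F →+* F))
    (by
      ext s : 1
      apply sl_ext
      ext i j
      show σ.symm (σ ((s : Matrix ι ι F) i j)) = _
      simp)
    (by
      ext s : 1
      apply sl_ext
      ext i j
      show σ (σ.symm ((s : Matrix ι ι F) i j)) = _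
      simp)

theorem fieldAut_coe (σ : F ≃+* F) (s : SpecialLinearGroup ι F) :
    ((fieldAut σ s : SpecialLinearGroup ι F) : Matrix ι ι F) = (s : Matrix ι ι F).map σ := rfl

theorem fieldAut_tv (σ : F ≃+* F) {v φ : ι → F} (h : φ ⬝ᵥ v = 0) :
    fieldAut σ (tv v φ) = tv (σ ∘ v) (σ ∘ φ) := by
  have h' : (σ ∘ φ) ⬝ᵥ (σ ∘ v) = 0 := by
    have := congrArg σ h
    rw [map_zero] at this
    rw [← this]
    simp [dotProduct, map_sum]
  apply sl_ext
  rw [fieldAut_coe, tv_coe h, tv_coe h']
  ext i j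
  simp only [tvMat, map_apply, Matrix.add_apply, vecMulVec_apply, Matrix.one_apply, map_add, map_mul,
    Function.comp_apply]
  split_ifs <;> simp

theorem sl_transpose_inv (s : SpecialLinearGroup ι F) : (s.transpose)⁻¹ = (s⁻¹).transpose := by
  rw [inv_eq_iff_mul_eq_one]
  apply sl_ext
  rw [Matrix.SpecialLinearGroup.coe_mul, Matrix.SpecialLinearGroup.coe_transpose,
    Matrix.SpecialLinearGroup.coe_transpose, ← transpose_mul, ← Matrix.SpecialLinearGroup.coe_mul,
    inv_mul_cancel, Matrix.SpecialLinearGroup.coe_one, transpose_one]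

theorem sl_transpose_transpose (s : SpecialLinearGroup ι F) : s.transpose.transpose = s := by
  apply sl_ext
  rw [Matrix.SpecialLinearGroup.coe_transpose, Matrix.SpecialLinearGroup.coe_transpose, transpose_transpose]

/-- Inverse transpose, as an endomorphism of `SL`. -/
noncomputable def invTHom : SpecialLinearGroup ι F →* SpecialLinearGroup ι F where
  toFun s := (s⁻¹).transpose
  map_one' := by
    apply sl_ext
    rw [inv_one, Matrix.SpecialLinearGroup.coe_transpose, Matrix.SpecialLinearGroup.coe_one, transpose_one]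
  map_mul' s t := by
    apply sl_ext
    rw [_root_.mul_inv_rev, Matrix.SpecialLinearGroup.coe_transpose, Matrix.SpecialLinearGroup.coe_mul,
      Matrix.SpecialLinearGroup.coe_mul, Matrix.SpecialLinearGroup.coe_transpose,
      Matrix.SpecialLinearGroup.coe_transpose, transpose_mul]

theorem invTHom_comp : (invTHom (F := F) (ι := ι)).comp invTHom = MonoidHom.id _ := by
  ext s : 1
  show ((s⁻¹).transpose⁻¹).transpose = s
  rw [sl_transpose_inv, inv_inv, sl_transpose_transpose]

/-- Inverse transpose, as an automorphism of `SL`. -/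
noncomputable def invT : MulAut (SpecialLinearGroup ι F) :=
  MonoidHom.toMulEquiv invTHom invTHom invTHom_comp invTHom_comp

theorem invT_coe (s : SpecialLinearGroup ι F) :
    ((invT s : SpecialLinearGroup ι F) : Matrix ι ι F) = ((s⁻¹ : SpecialLinearGroup ι F) : Matrix ι ι F)ᵀ := rfl

theorem invT_tv {v φ : ι → F} (h : φ ⬝ᵥ v = 0) : (invT (tv v φ) : SpecialLinearGroup ι F) = tv (-φ) v := by
  have h' : v ⬝ᵥ (-φ) = 0 := by rw [dotProduct_neg, dotProduct_comm, h, neg_zero]
  apply sl_ext
  rw [invT_coe, tv_inv h, tv_coe (by rw [neg_dotProduct, h, neg_zero]), tv_coe h']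
  ext i j
  simp only [tvMat, transpose_apply, Matrix.add_apply, Matrix.one_apply, vecMulVec_apply, Pi.neg_apply]
  by_cases hij : i = j
  · subst hij
    simp only [if_true]
    ring
  · rw [if_neg hij, if_neg (Ne.symm hij)]
    ring

theorem invT_mul_invT : (invT : MulAut (SpecialLinearGroup ι F)) * invT = 1 := by
  ext s : 1
  have := congrArg (fun f => f s) (invTHom_comp (F := F) (ι := ι))
  exact this

/-! ### Descent to `PSL` -/

/-- An automorphism of `SL` induces an automorphism of `PSL`. -/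
noncomputable def descend : MulAut (SpecialLinearGroup ι F) →* MulAut (ProjectiveSpecialLinearGroup ι F) where
  toFun α := QuotientGroup.congr (Subgroup.center _) (Subgroup.center _) α
    (Subgroup.map_equiv_eq_comap_symm' α _ ▸ by
      ext x
      simp only [Subgroup.mem_comap, Subgroup.mem_center_iff]
      constructor
      · intro hx g
        have := hx (α.symm g)
        have := congrArg α this
        simpa using this
      · intro hx g
        have := hx (α g)
        apply α.injective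
        simpa using this)
  map_one' := by
    ext x
    induction x using QuotientGroup.induction_on with
    | H s => rfl
  map_mul' α β := by
    ext x
    induction x using QuotientGroup.induction_on with
    | H s => rfl

theorem descend_mk (α : MulAut (SpecialLinearGroup ι F)) (s : SpecialLinearGroup ι F) :
    descend α (QuotientGroup.mk s : ProjectiveSpecialLinearGroup ι F) = QuotientGroup.mk (α s) := rfl

end Cfsg.Agent.Lib.Helper45.PSLAut
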