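import Cfsg.Agent.Lib.Helper45.PSLAut.Clique

/-!
# Automorphisms of `PSL_n` permute the maximal transvection subgroups; normalisation to a frame
-/

set_option autoImplicit false

namespace Cfsg.Agent.Lib.Helper45.PSLAut

open Matrix

variable {F : Type*} [Field F] {ι : Type*} [DecidableEq ι] [Fintype ι]

/-- Every automorphism of `PSL` preserves the set of transvections. -/
def AutPresT (F : Type*) [Field F] (ι : Type*) [DecidableEq ι] [Fintype ι] : Prop :=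
  ∀ (α : MulAut (ProjectiveSpecialLinearGroup ι F)) (x : ProjectiveSpecialLinearGroup ι F),
    IsTb x → IsTb (α x)

def IsCenT (A : Subgroup (ProjectiveSpecialLinearGroup ι F)) : Prop :=
  ∃ v : ι → F, v ≠ 0 ∧ A = Acen v

def IsAxT (A : Subgroup (ProjectiveSpecialLinearGroup ι F)) : Prop :=
  ∃ φ : ι → F, φ ≠ 0 ∧ A = Aax φ

theorem tsub_map (hT : AutPresT F ι) (α : MulAut (ProjectiveSpecialLinearGroup ι F))
    {A : Subgroup (ProjectiveSpecialLinearGroup ι F)} (hA : TSub A) : TSub (A.map α.toMonoidHom) := by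
  rintro _ ⟨x, hx, rfl⟩
  rcases hA x hx with h | h
  · left
    rw [h]
    exact map_one _
  · right
    exact hT α x h

theorem map_map_inv (α : MulAut (ProjectiveSpecialLinearGroup ι F))
    (A : Subgroup (ProjectiveSpecialLinearGroup ι F)) :
    (A.map α.toMonoidHom).map (α⁻¹).toMonoidHom = A := by
  rw [Subgroup.map_map]
  have : (α⁻¹).toMonoidHom.comp α.toMonoidHom = MonoidHom.id _ :=
    MonoidHom.ext fun x => by simp
  rw [this, Subgroup.map_id]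

theorem map_inv_map (α : MulAut (ProjectiveSpecialLinearGroup ι F))
    (A : Subgroup (ProjectiveSpecialLinearGroup ι F)) :
    (A.map (α⁻¹).toMonoidHom).map α.toMonoidHom = A := by
  have := map_map_inv α⁻¹ A
  rwa [inv_inv] at this

theorem eq_of_le_of_isMaxT (h3 : 3 ≤ Fintype.card ι) {A M : Subgroup (ProjectiveSpecialLinearGroup ι F)}
    (hA : IsCenT A ∨ IsAxT A) (hM : IsCenT M ∨ IsAxT M) (h : A ≤ M) : A = M := by
  rcases hA with ⟨v, hv, rfl⟩ | ⟨φ, hφ, rfl⟩ <;> rcases hM with ⟨w, hw, rfl⟩ | ⟨ψ, hψ, rfl⟩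
  · exact Acen_eq_of_par hv hw (par_of_Acen_le h3 h)
  · exact absurd h (not_Acen_le_Aax h3 hv)
  · exact absurd h (not_Aax_le_Acen h3 hφ)
  · exact Aax_eq_of_par hφ hψ (par_of_Aax_le h3 h)

theorem isMaxT_of_tsub (h3 : 3 ≤ Fintype.card ι) {A : Subgroup (ProjectiveSpecialLinearGroup ι F)}
    (hA : TSub A) : ∃ M, (IsCenT M ∨ IsAxT M) ∧ A ≤ M := by
  rcases tsub_le h3 hA with ⟨v, hv, h⟩ | ⟨φ, hφ, h⟩
  · exact ⟨_, Or.inl ⟨v, hv, rfl⟩, h⟩
  · exact ⟨_, Or.inr ⟨φ, hφ, rfl⟩, h⟩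

theorem tsub_of_isMaxT {A : Subgroup (ProjectiveSpecialLinearGroup ι F)} (hA : IsCenT A ∨ IsAxT A) :
    TSub A := by
  rcases hA with ⟨v, hv, rfl⟩ | ⟨φ, hφ, rfl⟩
  · exact tsub_Acen hv
  · exact tsub_Aax hφ

/-- Automorphisms permute the maximal transvection subgroups. -/
theorem isMaxT_map (h3 : 3 ≤ Fintype.card ι) (hT : AutPresT F ι)
    (α : MulAut (ProjectiveSpecialLinearGroup ι F))
    {A : Subgroup (ProjectiveSpecialLinearGroup ι F)} (hA : IsCenT A ∨ IsAxT A) :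
    IsCenT (A.map α.toMonoidHom) ∨ IsAxT (A.map α.toMonoidHom) := by
  obtain ⟨M, hM, hAM⟩ := isMaxT_of_tsub h3 (tsub_map hT α (tsub_of_isMaxT hA))
  obtain ⟨M', hM', hBM'⟩ := isMaxT_of_tsub h3 (tsub_map hT α⁻¹ (tsub_of_isMaxT hM))
  have hAB : A ≤ M.map (α⁻¹).toMonoidHom := by
    have := Subgroup.map_mono (f := (α⁻¹).toMonoidHom) hAM
    rwa [map_map_inv] at this
  have hAM' : A = M' := eq_of_le_of_isMaxT h3 hA hM' (hAB.trans hBM')
  have hBA : M.map (α⁻¹).toMonoidHom ≤ A := hAM' ▸ hBM'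
  have : M ≤ A.map α.toMonoidHom := by
    have := Subgroup.map_mono (f := α.toMonoidHom) hBA
    rwa [map_inv_map] at this
  rw [le_antisymm hAM this]
  exact hM

theorem isAxT_of_inf_ne_bot (h3 : 3 ≤ Fintype.card ι) {A B : Subgroup (ProjectiveSpecialLinearGroup ι F)}
    (hA : IsCenT A) (hB : IsCenT B ∨ IsAxT B) (hne : A ≠ B) (hinf : A ⊓ B ≠ ⊥) : IsAxT B := by
  rcases hB with hB | hB
  · exfalso
    obtain ⟨v, hv, rfl⟩ := hA
    obtain ⟨w, hw, rfl⟩ := hB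
    by_cases hp : Par v w
    · exact hne (Acen_eq_of_par hv hw hp)
    · exact hinf (Acen_inf_Acen h3 hp)
  · exact hB

theorem isCenT_of_inf_ne_bot (h3 : 3 ≤ Fintype.card ι) {A B : Subgroup (ProjectiveSpecialLinearGroup ι F)}
    (hA : IsAxT A) (hB : IsCenT B ∨ IsAxT B) (hne : A ≠ B) (hinf : A ⊓ B ≠ ⊥) : IsCenT B := by
  rcases hB with hB | hB
  · exact hB
  · exfalso
    obtain ⟨v, hv, rfl⟩ := hA
    obtain ⟨w, hw, rfl⟩ := hB
    by_cases hp : Par v w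
    · exact hne (Aax_eq_of_par hv hw hp)
    · exact hinf (Aax_inf_Aax h3 hp)

theorem map_inf_ne_bot (α : MulAut (ProjectiveSpecialLinearGroup ι F))
    {A B : Subgroup (ProjectiveSpecialLinearGroup ι F)} (h : A ⊓ B ≠ ⊥) :
    A.map α.toMonoidHom ⊓ B.map α.toMonoidHom ≠ ⊥ := by
  rw [← Subgroup.map_inf _ _ _ α.injective]
  intro h'
  exact h ((Subgroup.map_eq_bot_iff_of_injective _ α.injective).mp h')

theorem map_ne_map (α : MulAut (ProjectiveSpecialLinearGroup ι F))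
    {A B : Subgroup (ProjectiveSpecialLinearGroup ι F)} (h : A ≠ B) :
    A.map α.toMonoidHom ≠ B.map α.toMonoidHom := fun h' =>
  h (Subgroup.map_injective α.injective h')

theorem isAxT_map_of_isCenT_map (h3 : 3 ≤ Fintype.card ι) (hT : AutPresT F ι)
    (α : MulAut (ProjectiveSpecialLinearGroup ι F)) {v φ : ι → F} (hv : v ≠ 0) (hφ : φ ≠ 0)
    (h : φ ⬝ᵥ v = 0) (hc : IsCenT ((Acen v).map α.toMonoidHom)) :
    IsAxT ((Aax φ).map α.toMonoidHom) :=
  isAxT_of_inf_ne_bot h3 hc (isMaxT_map h3 hT α (Or.inr ⟨φ, hφ, rfl⟩))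
    (map_ne_map α (Acen_ne_Aax h3 hv)) (map_inf_ne_bot α (Acen_inf_Aax_ne_bot h3 hv hφ h))

theorem isCenT_map_of_isAxT_map (h3 : 3 ≤ Fintype.card ι) (hT : AutPresT F ι)
    (α : MulAut (ProjectiveSpecialLinearGroup ι F)) {v φ : ι → F} (hv : v ≠ 0) (hφ : φ ≠ 0)
    (h : φ ⬝ᵥ v = 0) (hc : IsAxT ((Aax φ).map α.toMonoidHom)) :
    IsCenT ((Acen v).map α.toMonoidHom) :=
  isCenT_of_inf_ne_bot h3 hc (isMaxT_map h3 hT α (Or.inl ⟨v, hv, rfl⟩))
    (map_ne_map α (Acen_ne_Aax h3 hv).symm)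
    (by rw [inf_comm]; exact map_inf_ne_bot α (Acen_inf_Aax_ne_bot h3 hv hφ h))

/-- `α` maps centre-type subgroups to centre-type subgroups and axis-type to axis-type. -/
def TypePres (α : MulAut (ProjectiveSpecialLinearGroup ι F)) : Prop :=
  (∀ v : ι → F, v ≠ 0 → IsCenT ((Acen v).map α.toMonoidHom)) ∧
    (∀ φ : ι → F, φ ≠ 0 → IsAxT ((Aax φ).map α.toMonoidHom))

theorem typePres_of_isCenT (h3 : 3 ≤ Fintype.card ι) (hT : AutPresT F ι)
    (α : MulAut (ProjectiveSpecialLinearGroup ι F)) {v₀ : ι → F} (hv₀ : v₀ ≠ 0)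
    (h : IsCenT ((Acen v₀).map α.toMonoidHom)) : TypePres α := by
  have hcen : ∀ w : ι → F, w ≠ 0 → IsCenT ((Acen w).map α.toMonoidHom) := by
    intro w hw
    obtain ⟨φ, hφ, h1, h2⟩ := exists_common_zero h3 v₀ w
    rw [dotProduct_comm] at h1 h2
    exact isCenT_map_of_isAxT_map h3 hT α hw hφ h2 (isAxT_map_of_isCenT_map h3 hT α hv₀ hφ h1 h)
  refine ⟨hcen, fun ψ hψ => ?_⟩
  obtain ⟨w, hw, h1, -⟩ := exists_common_zero h3 ψ ψ
  exact isAxT_map_of_isCenT_map h3 hT α hw hψ h1 (hcen w hw)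

theorem typePres_of_isAxT (h3 : 3 ≤ Fintype.card ι) (hT : AutPresT F ι)
    (α : MulAut (ProjectiveSpecialLinearGroup ι F)) {φ₀ : ι → F} (hφ₀ : φ₀ ≠ 0)
    (h : IsAxT ((Aax φ₀).map α.toMonoidHom)) : TypePres α := by
  obtain ⟨w, hw, h1, -⟩ := exists_common_zero h3 φ₀ φ₀
  exact typePres_of_isCenT h3 hT α hw (isCenT_map_of_isAxT_map h3 hT α hw hφ₀ h1 h)

theorem typePres_or (h3 : 3 ≤ Fintype.card ι) (hT : AutPresT F ι)
    (α : MulAut (ProjectiveSpecialLinearGroup ι F)) : TypePres α ∨ TypePres (α * iotaBar) := by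
  obtain ⟨v₀, hv₀⟩ := exists_ne_zero_vec (F := F) h3
  rcases isMaxT_map h3 hT α (Or.inl ⟨v₀, hv₀, rfl⟩) with h | h
  · exact Or.inl (typePres_of_isCenT h3 hT α hv₀ h)
  · right
    apply typePres_of_isAxT h3 hT _ hv₀
    have : (α * iotaBar).toMonoidHom = α.toMonoidHom.comp (iotaBar : MulAut (ProjectiveSpecialLinearGroup ι F)).toMonoidHom :=
      rfl
    rw [this, ← Subgroup.map_map, map_iotaBar_Aax]
    exact h

end Cfsg.Agent.Lib.Helper45.PSLAut
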