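import Cfsg.Agent.Lib.Helper45.PSLAut.Frame

/-!
# Normalisation of a type-preserving automorphism to the standard frame
-/

set_option autoImplicit false

namespace Cfsg.Agent.Lib.Helper45.PSLAut

open Matrix

variable {F : Type*} [Field F] {ι : Type*} [DecidableEq ι] [Fintype ι]

/-- Standard basis vector. -/
def eb (i : ι) : ι → F := Pi.single i 1

omit [Fintype ι] in
theorem eb_ne_zero (i : ι) : (eb i : ι → F) ≠ 0 := by
  intro h
  have := congrFun h i
  simp [eb] at this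

theorem eb_dot_eb (i j : ι) : (eb i : ι → F) ⬝ᵥ eb j = if i = j then 1 else 0 := by
  rw [eb, eb, single_dotProduct, one_mul, Pi.single_apply]

theorem eb_dot_eb_of_ne {i j : ι} (h : i ≠ j) : (eb i : ι → F) ⬝ᵥ eb j = 0 := by
  rw [eb_dot_eb, if_neg h]

theorem descend_conjGL_tb (g : GL ι F) {v φ : ι → F} (h : φ ⬝ᵥ v = 0) :
    descend (conjGL g) (tb v φ) =
      tb ((g : Matrix ι ι F) *ᵥ v) (φ ᵥ* ((g⁻¹ : GL ι F) : Matrix ι ι F)) := by
  rw [tb, descend_mk, conjGL_tv g h, tb]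

theorem descend_fieldAut_tb (σ : F ≃+* F) {v φ : ι → F} (h : φ ⬝ᵥ v = 0) :
    descend (fieldAut σ) (tb v φ) = tb (σ ∘ v) (σ ∘ φ) := by
  rw [tb, descend_mk, fieldAut_tv σ h, tb]

/-- The root element `x_{ij}(a)` in `PSL`. -/
noncomputable def xb (i j : ι) (a : F) : ProjectiveSpecialLinearGroup ι F := tb (a • eb i) (eb j)

theorem xb_mem_inf {i j : ι} (hij : i ≠ j) (a : F) : xb i j a ∈ Acen (eb i : ι → F) ⊓ Aax (eb j) := by
  constructor
  · refine ⟨a • eb j, ?_, tb_smul_left _ _ _⟩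
    rw [smul_dotProduct, eb_dot_eb_of_ne hij.symm, smul_zero]
  · exact ⟨a • eb i, by rw [dotProduct_smul, eb_dot_eb_of_ne hij.symm, smul_zero], rfl⟩

theorem exists_frame (h3 : 3 ≤ Fintype.card ι)
    (α : MulAut (ProjectiveSpecialLinearGroup ι F)) (hα : TypePres α) :
    ∃ g : GL ι F, ∀ i j : ι, i ≠ j → ∀ a : F, ∃ b : F,
      α (xb i j a) = descend (conjGL g) (xb i j b) := by
  choose v hv hvA using fun i : ι => hα.1 (eb i) (eb_ne_zero i)
  choose φ hφ hφA using fun j : ι => hα.2 (eb j) (eb_ne_zero j)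
  have orth : ∀ i j, i ≠ j → φ j ⬝ᵥ v i = 0 := by
    intro i j hij
    by_contra hne
    have h0 := Acen_inf_Aax_eq_bot h3 (hv i) (hφ j) hne
    have h1 := map_inf_ne_bot α (Acen_inf_Aax_ne_bot h3 (eb_ne_zero (F := F) i) (eb_ne_zero j)
      (eb_dot_eb_of_ne hij.symm))
    rw [hvA i, hφA j] at h1
    exact h1 h0
  have diag : ∀ i, φ i ⬝ᵥ v i ≠ 0 := by
    intro i h0
    have h1 := Acen_inf_Aax_ne_bot h3 (hv i) (hφ i) h0
    rw [← hvA i, ← hφA i, ← Subgroup.map_inf _ _ _ α.injective,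
      Acen_inf_Aax_eq_bot h3 (eb_ne_zero i) (eb_ne_zero i) (by rw [eb_dot_eb, if_pos rfl]; exact one_ne_zero),
      Subgroup.map_bot] at h1
    exact h1 rfl
  set gM : Matrix ι ι F := Matrix.of fun k i => v i k with hgM
  set ΦM : Matrix ι ι F := Matrix.of fun j k => φ j k with hΦM
  have hprod : ΦM * gM = diagonal fun i => φ i ⬝ᵥ v i := by
    ext j i
    rw [mul_apply, diagonal_apply]
    by_cases hji : j = i
    · subst hji
      rw [if_pos rfl]
      rfl
    · rw [if_neg hji]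
      exact orth i j (Ne.symm hji)
  have hdet : gM.det ≠ 0 := by
    intro h0
    have := congrArg det hprod
    rw [det_mul, h0, mul_zero, det_diagonal] at this
    exact (Finset.prod_ne_zero_iff.mpr fun i _ => diag i) this.symm
  let G : GL ι F := GeneralLinearGroup.mkOfDetNeZero gM hdet
  have hGcoe : (G : Matrix ι ι F) = gM := rfl
  have hGv : ∀ i (b : F), (G : Matrix ι ι F) *ᵥ (b • eb i) = b • v i := by
    intro i b
    rw [hGcoe, mulVec_smul]
    congr 1
    ext k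
    simp [eb, hgM, mulVec, dotProduct, Pi.single_apply]
  have hGφ : ∀ j, (eb j : ι → F) ᵥ* ((G⁻¹ : GL ι F) : Matrix ι ι F) = (φ j ⬝ᵥ v j)⁻¹ • φ j := by
    intro j
    have h1 : ((φ j ⬝ᵥ v j)⁻¹ • φ j) ᵥ* gM = eb j := by
      ext i
      rw [smul_vecMul, Pi.smul_apply, smul_eq_mul]
      have : (φ j ᵥ* gM) i = φ j ⬝ᵥ v i := rfl
      rw [this]
      by_cases hij : i = j
      · subst hij
        rw [inv_mul_cancel₀ (diag i)]
        simp [eb]
      · rw [orth i j hij, mul_zero]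
        simp [eb, hij]
    rw [← h1, vecMul_vecMul, ← hGcoe, gl_mul_inv, vecMul_one]
  refine ⟨G, fun i j hij a => ?_⟩
  have hmem : α (xb i j a) ∈ Acen (v i) ⊓ Aax (φ j) := by
    rw [← hvA i, ← hφA j, ← Subgroup.map_inf _ _ _ α.injective]
    exact Subgroup.mem_map_of_mem _ (xb_mem_inf hij a)
  obtain ⟨c, hc, -⟩ := mem_Acen_inf_Aax h3 (hv i) (hφ j) hmem
  refine ⟨c * (φ j ⬝ᵥ v j), ?_⟩
  rw [hc, xb, descend_conjGL_tb G (by rw [dotProduct_smul, eb_dot_eb_of_ne hij.symm, smul_zero]),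
    hGv, hGφ, tb_smul_left, smul_smul, mul_assoc, mul_inv_cancel₀ (diag j), mul_one]

end Cfsg.Agent.Lib.Helper45.PSLAut
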