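import Cfsg.Agent.Lib.Helper45.PSLAut.Basic

/-!
# Parallel vectors, rank one matrices, and transvections in `PSL`
-/

set_option autoImplicit false

namespace Cfsg.Agent.Lib.Helper45.PSLAut

open Matrix

variable {F : Type*} [Field F] {ι : Type*}

/-- Two vectors are parallel: all `2 × 2` minors vanish. -/
def Par (v w : ι → F) : Prop := ∀ i j, v i * w j = v j * w i

theorem Par.refl (v : ι → F) : Par v v := fun _ _ => mul_comm _ _

theorem Par.symm {v w : ι → F} (h : Par v w) : Par w v := fun i j => by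
  have := h j i
  rw [mul_comm (w i), mul_comm (w j)]
  exact this

theorem par_smul_right (v : ι → F) (c : F) : Par v (c • v) := fun i j => by
  simp only [Pi.smul_apply, smul_eq_mul]
  ring

theorem par_smul_left (v : ι → F) (c : F) : Par (c • v) v := (par_smul_right v c).symm

theorem Par.exists_smul {v w : ι → F} (h : Par v w) (hv : v ≠ 0) : ∃ c : F, w = c • v := by
  obtain ⟨i, hi⟩ := Function.ne_iff.mp hv
  refine ⟨w i / v i, ?_⟩
  ext j
  have := h i j
  simp only [Pi.smul_apply, smul_eq_mul]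
  simp only [Pi.zero_apply] at hi
  field_simp
  rw [mul_comm, this, mul_comm]

theorem Par.exists_smul_ne_zero {v w : ι → F} (h : Par v w) (hv : v ≠ 0) (hw : w ≠ 0) :
    ∃ c : F, c ≠ 0 ∧ w = c • v := by
  obtain ⟨c, hc⟩ := h.exists_smul hv
  refine ⟨c, ?_, hc⟩
  rintro rfl
  rw [zero_smul] at hc
  exact hw hc

theorem Par.trans {u v w : ι → F} (h1 : Par u v) (h2 : Par v w) (hv : v ≠ 0) : Par u w := by
  obtain ⟨c, rfl⟩ := h1.symm.exists_smul hv
  obtain ⟨d, rfl⟩ := h2.exists_smul hv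
  intro i j
  simp only [Pi.smul_apply, smul_eq_mul]
  ring

theorem par_add_smul_iff {φ ψ : ι → F} (c : F) : Par (φ + c • ψ) ψ ↔ Par φ ψ := by
  constructor
  · intro h i j
    have := h i j
    simp only [Pi.add_apply, Pi.smul_apply, smul_eq_mul] at this
    linear_combination this
  · intro h i j
    have := h i j
    simp only [Pi.add_apply, Pi.smul_apply, smul_eq_mul]
    linear_combination this

/-- If `v φᵀ + w ψᵀ` has rank at most one then `v ∥ w` or `φ ∥ ψ`. -/
theorem par_or_par_of_vecMulVec_add {v φ w ψ u χ : ι → F}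
    (h : vecMulVec v φ + vecMulVec w ψ = vecMulVec u χ) : Par v w ∨ Par φ ψ := by
  by_contra hcon
  push Not at hcon
  obtain ⟨h1, h2⟩ := hcon
  simp only [Par, not_forall] at h1 h2
  obtain ⟨i, k, hik⟩ := h1
  obtain ⟨j, l, hjl⟩ := h2
  have e : ∀ a b, v a * φ b + w a * ψ b = u a * χ b := fun a b => by
    have := congrFun (congrFun h a) b
    simpa [vecMulVec_apply] using this
  have key : (v i * w k - v k * w i) * (φ j * ψ l - φ l * ψ j) = 0 := by
    have : (v i * w k - v k * w i) * (φ j * ψ l - φ l * ψ j)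
        = (v i * φ j + w i * ψ j) * (v k * φ l + w k * ψ l)
          - (v i * φ l + w i * ψ l) * (v k * φ j + w k * ψ j) := by ring
    rw [this, e, e, e, e]
    ring
  rcases mul_eq_zero.mp key with h | h
  · exact hik (sub_eq_zero.mp h)
  · exact hjl (sub_eq_zero.mp h)

theorem par_of_vecMulVec_eq {v φ w ψ : ι → F} (h : vecMulVec v φ = vecMulVec w ψ) (hφ : φ ≠ 0) :
    Par v w := by
  obtain ⟨j, hj⟩ := Function.ne_iff.mp hφ
  simp only [Pi.zero_apply] at hj
  have e : ∀ a b, v a * φ b = w a * ψ b := fun a b => by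
    have := congrFun (congrFun h a) b
    simpa [vecMulVec_apply] using this
  intro i k
  have h1 := e i j
  have h2 := e k j
  have : φ j * (v i * w k) = φ j * (v k * w i) := by
    calc φ j * (v i * w k) = (v i * φ j) * w k := by ring
      _ = (w i * ψ j) * w k := by rw [h1]
      _ = w i * (w k * ψ j) := by ring
      _ = w i * (v k * φ j) := by rw [h2]
      _ = φ j * (v k * w i) := by ring
  exact mul_left_cancel₀ hj this

theorem par_of_vecMulVec_eq' {v φ w ψ : ι → F} (h : vecMulVec v φ = vecMulVec w ψ) (hv : v ≠ 0) :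
    Par φ ψ := by
  refine par_of_vecMulVec_eq (v := φ) (φ := v) (w := ψ) (ψ := w) ?_ hv
  ext a b
  have := congrFun (congrFun h b) a
  simp only [vecMulVec_apply] at this ⊢
  rw [mul_comm, this, mul_comm]

variable [DecidableEq ι] [Fintype ι]

omit [DecidableEq ι] in
/-- In dimension at least three, two linear forms have a common nonzero zero. -/
theorem exists_common_zero (h3 : 3 ≤ Fintype.card ι) (φ ψ : ι → F) :
    ∃ x : ι → F, x ≠ 0 ∧ φ ⬝ᵥ x = 0 ∧ ψ ⬝ᵥ x = 0 := by
  let M : Matrix (Fin 2) ι F := Matrix.of ![φ, ψ]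
  have hker : LinearMap.ker M.mulVecLin ≠ ⊥ := by
    apply LinearMap.ker_ne_bot_of_finrank_lt
    rw [Module.finrank_fintype_fun_eq_card, Module.finrank_fintype_fun_eq_card, Fintype.card_fin]
    omega
  obtain ⟨x, hx, hx0⟩ := (Submodule.ne_bot_iff _).mp hker
  refine ⟨x, hx0, ?_, ?_⟩
  · have := congrFun (LinearMap.mem_ker.mp hx) 0
    simpa [M, mulVec] using this
  · have := congrFun (LinearMap.mem_ker.mp hx) 1
    simpa [M, mulVec] using this

/-- The image of `tv v φ` in `PSL`. -/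
noncomputable def tb (v φ : ι → F) : ProjectiveSpecialLinearGroup ι F :=
  QuotientGroup.mk (tv v φ)

/-- `x` is the image of a nontrivial transvection. -/
def IsTb (x : ProjectiveSpecialLinearGroup ι F) : Prop :=
  ∃ v φ : ι → F, v ≠ 0 ∧ φ ≠ 0 ∧ φ ⬝ᵥ v = 0 ∧ x = tb v φ

/-- If two elements of `SL` have the same image in `PSL`, and one of them is (the matrix of) a
transvection while the other fixes a nonzero vector, then they are equal. -/
theorem eq_tv_of_mk_eq {s : SpecialLinearGroup ι F} {u χ x₀ : ι → F} (hu : χ ⬝ᵥ u = 0)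
    (hx₀ : x₀ ≠ 0) (hfix : (s : Matrix ι ι F) *ᵥ x₀ = x₀)
    (h : (QuotientGroup.mk s : ProjectiveSpecialLinearGroup ι F) = tb u χ) : s = tv u χ := by
  rw [tb, QuotientGroup.eq, Matrix.SpecialLinearGroup.mem_center_iff] at h
  obtain ⟨r, -, hr⟩ := h
  have hs : (tv u χ : Matrix ι ι F) = (s : Matrix ι ι F) * Matrix.scalar ι r := by
    rw [hr, Matrix.SpecialLinearGroup.coe_mul, ← Matrix.mul_assoc, ← Matrix.SpecialLinearGroup.coe_mul,
      mul_inv_cancel, Matrix.SpecialLinearGroup.coe_one, Matrix.one_mul]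
  rw [tv_coe hu] at hs
  have h1 : tvMat u χ *ᵥ x₀ = r • x₀ := by
    rw [hs, ← mulVec_mulVec]
    have : Matrix.scalar ι r *ᵥ x₀ = r • x₀ := by
      ext i
      simp [Matrix.scalar, mulVec_diagonal]
    rw [this, mulVec_smul, hfix]
  rw [tvMat_mulVec] at h1
  -- apply χ
  have h2 : χ ⬝ᵥ x₀ = r * (χ ⬝ᵥ x₀) := by
    have := congrArg (fun y => χ ⬝ᵥ y) h1
    simp only [dotProduct_add, dotProduct_smul, hu, smul_eq_mul, mul_zero, add_zero] at this
    exact this
  have hr1 : r = 1 := by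
    by_cases hχ : χ ⬝ᵥ x₀ = 0
    · rw [hχ, zero_smul, add_zero] at h1
      obtain ⟨i, hi⟩ := Function.ne_iff.mp hx₀
      have := congrFun h1 i
      simp only [Pi.smul_apply, smul_eq_mul, Pi.zero_apply] at this hi
      have h3 : (r - 1) * x₀ i = 0 := by linear_combination -this
      rcases mul_eq_zero.mp h3 with h | h
      · exact sub_eq_zero.mp h
      · exact absurd h hi
    · have h3 : (r - 1) * (χ ⬝ᵥ x₀) = 0 := by linear_combination -h2
      rcases mul_eq_zero.mp h3 with h | h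
      · exact sub_eq_zero.mp h
      · exact absurd h hχ
  apply sl_ext
  rw [tv_coe hu, hs, hr1]
  simp

/-- `tb` is injective on transvection data (in dimension at least three). -/
theorem tv_eq_of_tb_eq (h3 : 3 ≤ Fintype.card ι) {v φ w ψ : ι → F} (h1 : φ ⬝ᵥ v = 0) (h2 : ψ ⬝ᵥ w = 0)
    (h : tb v φ = tb w ψ) : tv v φ = tv w ψ := by
  obtain ⟨x₀, hx₀, hφ, hψ⟩ := exists_common_zero h3 φ ψ
  refine eq_tv_of_mk_eq h2 hx₀ ?_ h
  rw [tv_coe h1, tvMat_mulVec, hφ, zero_smul, add_zero]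

theorem tb_eq_one_iff (h3 : 3 ≤ Fintype.card ι) {v φ : ι → F} (h1 : φ ⬝ᵥ v = 0) :
    tb v φ = 1 ↔ v = 0 ∨ φ = 0 := by
  rw [← tv_eq_one_iff h1]
  constructor
  · intro h
    have h0 : tb v φ = tb (0 : ι → F) (0 : ι → F) := by
      rw [h, tb, tv_zero_left]
      rfl
    rw [tv_eq_of_tb_eq h3 h1 (by simp) h0, tv_zero_left]
  · intro h
    rw [tb, h]
    rfl

theorem IsTb.ne_one (h3 : 3 ≤ Fintype.card ι) {x : ProjectiveSpecialLinearGroup ι F} (hx : IsTb x) :
    x ≠ 1 := by
  obtain ⟨v, φ, hv, hφ, h, rfl⟩ := hx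
  rw [Ne, tb_eq_one_iff h3 h]
  push Not
  exact ⟨hv, hφ⟩

theorem tb_mul_same_left {v φ ψ : ι → F} (h1 : φ ⬝ᵥ v = 0) (h2 : ψ ⬝ᵥ v = 0) :
    tb v φ * tb v ψ = tb v (φ + ψ) := by
  rw [tb, tb, tb, ← tv_mul_same_left h1 h2]
  rfl

theorem tb_mul_same_right {v w φ : ι → F} (h1 : φ ⬝ᵥ v = 0) (h2 : φ ⬝ᵥ w = 0) :
    tb v φ * tb w φ = tb (v + w) φ := by
  rw [tb, tb, tb, ← tv_mul_same_right h1 h2]
  rfl

theorem tb_smul_left (a : F) (v φ : ι → F) : tb (a • v) φ = tb v (a • φ) := by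
  rw [tb, tb, tv_smul_left]

theorem tb_zero_left (φ : ι → F) : tb (0 : ι → F) φ = 1 := by
  rw [tb, tv_zero_left]
  rfl

theorem tb_zero_right (v : ι → F) : tb v (0 : ι → F) = 1 := by
  rw [tb, tv_zero_right]
  rfl

theorem tb_inv {v φ : ι → F} (h : φ ⬝ᵥ v = 0) : (tb v φ)⁻¹ = tb v (-φ) := by
  rw [tb, tb, ← tv_inv h]
  rfl

/-- The basic dichotomy: the product of two nontrivial transvections is again a transvection (or
trivial) exactly when they have the same centre or the same axis. -/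
theorem mul_isTb_iff (h3 : 3 ≤ Fintype.card ι) {v φ w ψ : ι → F} (hv : v ≠ 0) (hφ : φ ≠ 0)
    (h1 : φ ⬝ᵥ v = 0) (hw : w ≠ 0) (hψ : ψ ≠ 0) (h2 : ψ ⬝ᵥ w = 0) :
    (tb v φ * tb w ψ = 1 ∨ IsTb (tb v φ * tb w ψ)) ↔ Par v w ∨ Par φ ψ := by
  constructor
  · intro h
    have h' : ∃ u χ : ι → F, χ ⬝ᵥ u = 0 ∧ tb v φ * tb w ψ = tb u χ := by
      rcases h with h | ⟨u, χ, -, -, hu, h⟩
      · exact ⟨0, 0, by simp, by rw [h, tb_zero_left]⟩
      · exact ⟨u, χ, hu, h⟩
    obtain ⟨u, χ, hu, h⟩ := h'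
    obtain ⟨x₀, hx₀, hφx, hψx⟩ := exists_common_zero h3 φ ψ
    have hs : tv v φ * tv w ψ = tv u χ := by
      refine eq_tv_of_mk_eq hu hx₀ ?_ h
      rw [Matrix.SpecialLinearGroup.coe_mul, ← mulVec_mulVec, tv_coe h2, tvMat_mulVec, hψx, zero_smul,
        add_zero, tv_coe h1, tvMat_mulVec, hφx, zero_smul, add_zero]
    have hm := congrArg (fun s : SpecialLinearGroup ι F => (s : Matrix ι ι F)) hs
    simp only [Matrix.SpecialLinearGroup.coe_mul, tv_coe h1, tv_coe h2, tv_coe hu, tvMat_mul_tvMat] at hm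
    rw [tvMat] at hm
    have hm' : vecMulVec v (φ + (φ ⬝ᵥ w) • ψ) + vecMulVec w ψ = vecMulVec u χ := by
      rw [vecMulVec_add, vecMulVec_smul]
      have := add_left_cancel (a := (1 : Matrix ι ι F)) (b := vecMulVec v φ + vecMulVec w ψ + (φ ⬝ᵥ w) • vecMulVec v ψ)
        (c := vecMulVec u χ) (by rw [← hm]; abel)
      rw [← this]
      abel
    rcases par_or_par_of_vecMulVec_add hm' with h | h
    · exact Or.inl h
    · exact Or.inr ((par_add_smul_iff _).mp h)
  · rintro (h | h)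
    · obtain ⟨c, hc, rfl⟩ := h.exists_smul_ne_zero hv hw
      have h2' : (c • ψ) ⬝ᵥ v = 0 := by
        rw [dotProduct_smul] at h2
        rw [smul_dotProduct]
        exact h2
      rw [tb_smul_left, tb_mul_same_left h1 h2']
      by_cases h0 : φ + c • ψ = 0
      · left
        rw [h0, tb_zero_right]
      · right
        exact ⟨v, _, hv, h0, by rw [add_dotProduct, h1, h2', add_zero], rfl⟩
    · obtain ⟨c, hc, rfl⟩ := h.exists_smul_ne_zero hφ hψ
      have h2' : φ ⬝ᵥ (c • w) = 0 := by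
        rw [smul_dotProduct] at h2
        rw [dotProduct_smul]
        exact h2
      rw [← tb_smul_left, tb_mul_same_right h1 h2']
      by_cases h0 : v + c • w = 0
      · left
        rw [h0, tb_zero_left]
      · right
        exact ⟨_, φ, h0, hφ, by rw [dotProduct_add, h1, h2', add_zero], rfl⟩

end Cfsg.Agent.Lib.Helper45.PSLAut
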