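import Cfsg.Agent.Lib.Helper45.PSLAut.Frame2
import Cfsg.Agent.Lib.Helper5.SLGen

/-!
# An automorphism of `PSL_n` normalising all root subgroups is diagonal times field
-/

set_option autoImplicit false

namespace Cfsg.Agent.Lib.Helper45.PSLAut

open Matrix
open scoped commutatorElement

variable {F : Type*} [Field F] {ι : Type*} [DecidableEq ι] [Fintype ι]

theorem tv_eb_eq_transvection {i j : ι} (hij : i ≠ j) (a : F) :
    tv (a • eb i) (eb j) = Matrix.SpecialLinearGroup.transvection hij a := by
  apply sl_ext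
  rw [tv_coe (by rw [dotProduct_smul, eb_dot_eb_of_ne hij.symm, smul_zero]),
    Matrix.SpecialLinearGroup.transvection_coe, tvMat]
  show _ = 1 + Matrix.single i j a
  congr 1
  ext k l
  simp only [vecMulVec_apply, Pi.smul_apply, eb, Pi.single_apply, smul_eq_mul, Matrix.single_apply]
  by_cases h1 : k = i
  · by_cases h2 : l = j
    · simp [h1, h2]
    · simp [h1, h2, Ne.symm h2]
  · by_cases h2 : l = j
    · simp [h1, h2, Ne.symm h1]
    · simp [h1, h2, Ne.symm h1]

theorem xb_eq_mk_transvection {i j : ι} (hij : i ≠ j) (a : F) :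
    xb i j a = (QuotientGroup.mk (Matrix.SpecialLinearGroup.transvection hij a) :
      ProjectiveSpecialLinearGroup ι F) := by
  rw [xb, tb, tv_eb_eq_transvection hij]

theorem xb_injective (h3 : 3 ≤ Fintype.card ι) {i j : ι} (hij : i ≠ j) :
    Function.Injective (xb (F := F) i j) := by
  intro a b h
  have h1 : (eb j : ι → F) ⬝ᵥ (a • eb i) = 0 := by
    rw [dotProduct_smul, eb_dot_eb_of_ne hij.symm, smul_zero]
  have h2 : (eb j : ι → F) ⬝ᵥ (b • eb i) = 0 := by
    rw [dotProduct_smul, eb_dot_eb_of_ne hij.symm, smul_zero]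
  have := (tv_eq_tv_iff h1 h2).mp (tv_eq_of_tb_eq h3 h1 h2 h)
  have := congrFun (congrFun this i) j
  simpa [vecMulVec_apply, eb] using this

theorem xb_add {i j : ι} (hij : i ≠ j) (a b : F) : xb i j (a + b) = xb i j a * xb i j b := by
  have h1 : (eb j : ι → F) ⬝ᵥ (a • eb i) = 0 := by
    rw [dotProduct_smul, eb_dot_eb_of_ne hij.symm, smul_zero]
  have h2 : (eb j : ι → F) ⬝ᵥ (b • eb i) = 0 := by
    rw [dotProduct_smul, eb_dot_eb_of_ne hij.symm, smul_zero]
  rw [xb, xb, xb, tb_mul_same_right h1 h2, add_smul]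

theorem xb_zero (i j : ι) : xb (F := F) i j 0 = 1 := by
  rw [xb, zero_smul, tb_zero_left]

/-- The Steinberg commutator relation in `PSL`. -/
theorem xb_commutator {i j k : ι} (hij : i ≠ j) (hik : i ≠ k) (hkj : k ≠ j) (a b : F) :
    ⁅xb i k a, xb k j b⁆ = xb i j (a * b) := by
  rw [xb_eq_mk_transvection hik, xb_eq_mk_transvection hkj, xb_eq_mk_transvection hij,
    ← Cfsg.Agent.Lib.Helper5.commutator_transvection_transvection hij hik hkj a b]
  rfl

/-- Two automorphisms agreeing on all root elements are equal. -/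
theorem mulAut_ext_xb {α β : MulAut (ProjectiveSpecialLinearGroup ι F)}
    (h : ∀ i j : ι, i ≠ j → ∀ a : F, α (xb i j a) = β (xb i j a)) : α = β := by
  ext x
  induction x using QuotientGroup.induction_on with
  | H s =>
    refine Cfsg.Agent.Lib.Helper5.transvection_induction
      (fun s => α (QuotientGroup.mk s) = β (QuotientGroup.mk s)) ?_ ?_ ?_ s
    · show α 1 = β 1
      rw [map_one, map_one]
    · intro i j hij c
      have := h i j hij c
      rwa [xb_eq_mk_transvection hij] at this
    · intro A B hA hB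
      show α (QuotientGroup.mk A * QuotientGroup.mk B) = β (QuotientGroup.mk A * QuotientGroup.mk B)
      rw [map_mul, map_mul, hA, hB]

/-- The diagonal matrix of a family of units, as an element of `GL`. -/
def diagGL (d : ι → Fˣ) : GL ι F :=
  ⟨diagonal fun i => (d i : F), diagonal fun i => ((d i)⁻¹ : Fˣ),
    by rw [diagonal_mul_diagonal]; simp, by rw [diagonal_mul_diagonal]; simp⟩

theorem descend_conjGL_diagGL_xb (d : ι → Fˣ) {i j : ι} (hij : i ≠ j) (a : F) :
    descend (conjGL (diagGL d)) (xb i j a) = xb i j ((d i : F) * a * ((d j)⁻¹ : Fˣ)) := by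
  rw [xb, descend_conjGL_tb _ (by rw [dotProduct_smul, eb_dot_eb_of_ne hij.symm, smul_zero])]
  have h1 : ((diagGL d : GL ι F) : Matrix ι ι F) *ᵥ (a • eb i) = ((d i : F) * a) • eb i := by
    show (diagonal fun i => (d i : F)) *ᵥ (a • eb i) = _
    ext k
    rw [mulVec_diagonal]
    simp only [Pi.smul_apply, eb, Pi.single_apply, smul_eq_mul]
    by_cases hk : k = i
    · subst hk; simp
    · simp [hk]
  have h2 : (eb j : ι → F) ᵥ* (((diagGL d)⁻¹ : GL ι F) : Matrix ι ι F) = (((d j)⁻¹ : Fˣ) : F) • eb j := by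
    show (eb j : ι → F) ᵥ* (diagonal fun i => (((d i)⁻¹ : Fˣ) : F)) = _
    ext k
    rw [vecMul_diagonal]
    simp only [Pi.smul_apply, eb, Pi.single_apply, smul_eq_mul]
    by_cases hk : k = j
    · subst hk; simp
    · simp [hk]
  rw [h1, h2, xb, ← tb_smul_left, smul_smul]
  congr 2
  ring

theorem descend_fieldAut_xb (σ : F ≃+* F) {i j : ι} (hij : i ≠ j) (a : F) :
    descend (fieldAut σ) (xb i j a) = xb i j (σ a) := by
  rw [xb, descend_fieldAut_tb _ (by rw [dotProduct_smul, eb_dot_eb_of_ne hij.symm, smul_zero]), xb]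
  congr 1
  · ext k
    simp only [Function.comp_apply, Pi.smul_apply, eb, Pi.single_apply, smul_eq_mul]
    by_cases hk : k = i
    · subst hk; simp
    · simp [hk]
  · ext k
    simp only [Function.comp_apply, eb, Pi.single_apply]
    by_cases hk : k = j
    · subst hk; simp
    · simp [hk]

end Cfsg.Agent.Lib.Helper45.PSLAut
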