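import Cfsg.Agent.Lib.Helper45.PSLAut.SylowT

/-!
# Automorphisms of `PSL_n(F)` preserve transvections: the Sylow argument
-/

set_option autoImplicit false

namespace Cfsg.Agent.Lib.Helper45.PSLAut

open Matrix
open scoped Pointwise

variable {F : Type*} [Field F] {m : ℕ}

/-- The image of the unitriangular group in `PSL`. -/
def UBar (m : ℕ) (F : Type*) [Field F] [Finite F] :
    Subgroup (ProjectiveSpecialLinearGroup (Fin (m + 1)) F) :=
  (UU (m + 1) F).map (QuotientGroup.mk' (Subgroup.center (SpecialLinearGroup (Fin (m + 1)) F)))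

theorem h0last (hm : 1 ≤ m) : (0 : Fin (m + 1)) ≠ Fin.last m := by
  intro h
  have := congrArg Fin.val h
  simp at this
  omega

theorem card3 (hm : 2 ≤ m) : 3 ≤ Fintype.card (Fin (m + 1)) := by
  rw [Fintype.card_fin]
  omega

theorem eq_one_of_mem_center_of_mem_UU [Finite F] {c : SpecialLinearGroup (Fin (m + 1)) F}
    (hc : c ∈ Subgroup.center (SpecialLinearGroup (Fin (m + 1)) F)) (hU : c ∈ UU (m + 1) F) : c = 1 := by
  rw [Matrix.SpecialLinearGroup.mem_center_iff] at hc
  obtain ⟨r, -, hr⟩ := hc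
  have h00 := hU 0 0 le_rfl
  rw [← hr, one_apply_eq] at h00
  have hr1 : r = 1 := by simpa [Matrix.scalar] using h00
  apply sl_ext
  rw [← hr, hr1]
  simp

/-- The centre of `UBar` consists of images of transvections `x_{0,last}(a)`. -/
theorem exists_of_mem_center_UBar [Finite F] (hm : 1 ≤ m)
    {z : ProjectiveSpecialLinearGroup (Fin (m + 1)) F}
    (hz : z ∈ UBar m F) (hc : ∀ u ∈ UBar m F, z * u = u * z) :
    ∃ a : F, z = tb (a • eb 0) (eb (Fin.last m)) := by
  obtain ⟨z', hz', rfl⟩ := hz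
  have hcomm : ∀ u ∈ UU (m + 1) F, z' * u = u * z' := by
    intro u hu
    have h1 := hc _ (Subgroup.mem_map_of_mem _ hu)
    have h2 : ((QuotientGroup.mk (z' * u) : ProjectiveSpecialLinearGroup (Fin (m + 1)) F)) =
        QuotientGroup.mk (u * z') := h1
    rw [QuotientGroup.eq] at h2
    have h3 := eq_one_of_mem_center_of_mem_UU h2
      (mul_mem (inv_mem (mul_mem hz' hu)) (mul_mem hu hz'))
    exact (inv_mul_eq_one.mp h3)
  obtain ⟨a, ha⟩ := center_UU hm hz' hcomm
  exact ⟨a, by rw [ha]; rfl⟩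

theorem xlast_mem_UBar [Finite F] (hm : 1 ≤ m) (a : F) :
    tb (a • eb 0) (eb (Fin.last m)) ∈ UBar m F :=
  Subgroup.mem_map_of_mem _
    (tv_eb_mem_UU (lt_of_le_of_ne (Fin.zero_le _) (h0last hm)) a)

theorem xlast_central_UBar [Finite F] (hm : 1 ≤ m) (a : F)
    {u : ProjectiveSpecialLinearGroup (Fin (m + 1)) F} (hu : u ∈ UBar m F) :
    tb (a • eb 0) (eb (Fin.last m)) * u = u * tb (a • eb 0) (eb (Fin.last m)) := by
  obtain ⟨u', hu', rfl⟩ := hu
  have := tv_central_UU hm a hu'
  show (QuotientGroup.mk (tv (a • eb 0) (eb (Fin.last m)) * u') :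
    ProjectiveSpecialLinearGroup (Fin (m + 1)) F) = QuotientGroup.mk (u' * tv (a • eb 0) (eb (Fin.last m)))
  rw [this]

theorem conj_mk_eq_descend {ι : Type*} [DecidableEq ι] [Fintype ι] (s : SpecialLinearGroup ι F) :
    MulAut.conj (QuotientGroup.mk s : ProjectiveSpecialLinearGroup ι F) =
      descend (conjGL (Matrix.SpecialLinearGroup.toGL s)) := by
  ext x
  induction x using QuotientGroup.induction_on with
  | H t =>
    rw [descend_mk, MulAut.conj_apply]
    show (QuotientGroup.mk (s * t * s⁻¹) : ProjectiveSpecialLinearGroup ι F) = _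
    congr 1

theorem isTb_descend_conjGL {ι : Type*} [DecidableEq ι] [Fintype ι] (g : GL ι F)
    {x : ProjectiveSpecialLinearGroup ι F} (hx : IsTb x) : IsTb (descend (conjGL g) x) := by
  obtain ⟨v, φ, hv, hφ, h, rfl⟩ := hx
  rw [descend_conjGL_tb g h]
  refine ⟨_, _, ?_, ?_, ?_, rfl⟩
  · intro h0
    apply hv
    rw [← gl_inv_mulVec_cancel g v, h0, mulVec_zero]
  · intro h0
    apply hφ
    rw [← gl_vecMul_inv_cancel' g φ, h0, zero_vecMul]
  · rw [← dotProduct_mulVec, mulVec_mulVec, gl_inv_mul, one_mulVec, h]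

/-- **Automorphisms of `PSL_n(F)` preserve transvections.** -/
theorem autPresT [Fintype F] {p f : ℕ} [Fact p.Prime] (hF : Fintype.card F = p ^ f) (hf : 1 ≤ f)
    (hm : 2 ≤ m) : AutPresT F (Fin (m + 1)) := by
  have h3 := card3 hm
  have hm1 : 1 ≤ m := by omega
  -- the Sylow subgroup
  have hP : IsPGroup p (UBar m F) := (isPGroup_UU (n := m + 1) hF).map _
  have hidx : ¬ p ∣ (UBar m F).index := fun h =>
    not_dvd_index_UU (n := m + 1) hF hf
      (h.trans (Subgroup.index_map_dvd _ (QuotientGroup.mk'_surjective _)))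
  let P : Sylow p (ProjectiveSpecialLinearGroup (Fin (m + 1)) F) := hP.toSylow hidx
  have hPcoe : (P : Subgroup (ProjectiveSpecialLinearGroup (Fin (m + 1)) F)) = UBar m F := rfl
  -- key: the image of the basic transvection
  have key : ∀ β : MulAut (ProjectiveSpecialLinearGroup (Fin (m + 1)) F),
      IsTb (β (tb (eb 0) (eb (Fin.last m)))) := by
    intro β
    obtain ⟨g, hg⟩ := MulAction.exists_smul_eq (ProjectiveSpecialLinearGroup (Fin (m + 1)) F) (β • P) P
    have hg' : MulAut.conj g • (β • UBar m F) = UBar m F := by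
      have := congrArg (fun Q : Sylow p (ProjectiveSpecialLinearGroup (Fin (m + 1)) F) =>
        (Q : Subgroup (ProjectiveSpecialLinearGroup (Fin (m + 1)) F))) hg
      simpa [Sylow.coe_subgroup_smul, Sylow.pointwise_smul_def, hPcoe] using this
    set γ : MulAut (ProjectiveSpecialLinearGroup (Fin (m + 1)) F) := MulAut.conj g * β with hγ
    have hγmem : ∀ u ∈ UBar m F, γ u ∈ UBar m F := by
      intro u hu
      rw [← hg']
      exact Subgroup.smul_mem_pointwise_smul _ _ _ (Subgroup.smul_mem_pointwise_smul _ _ _ hu)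
    have hγsurj : ∀ u' ∈ UBar m F, ∃ u ∈ UBar m F, γ u = u' := by
      intro u' hu'
      rw [← hg', Subgroup.mem_pointwise_smul_iff_inv_smul_mem,
        Subgroup.mem_pointwise_smul_iff_inv_smul_mem] at hu'
      refine ⟨_, hu', ?_⟩
      simp only [hγ, MulAut.smul_def, MulAut.mul_apply, MulAut.apply_inv_self]
    have hx0 := xlast_mem_UBar (F := F) hm1 1
    rw [one_smul] at hx0
    obtain ⟨a, ha⟩ := exists_of_mem_center_UBar hm1 (hγmem _ hx0) (by
      intro u' hu'
      obtain ⟨u, hu, rfl⟩ := hγsurj u' hu'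
      have := xlast_central_UBar (F := F) hm1 1 hu
      rw [one_smul] at this
      rw [← map_mul, ← map_mul, this])
    have ha0 : a ≠ 0 := by
      rintro rfl
      rw [zero_smul, tb_zero_left] at ha
      have h1 : tb (eb 0 : Fin (m + 1) → F) (eb (Fin.last m)) = 1 := by
        apply γ.injective
        rw [ha, map_one]
      rw [tb_eq_one_iff h3 (eb_dot_eb_of_ne (h0last hm1).symm)] at h1
      rcases h1 with h1 | h1
      · exact eb_ne_zero _ h1
      · exact eb_ne_zero _ h1
    have hβ : β (tb (eb 0) (eb (Fin.last m))) = (MulAut.conj g)⁻¹ (tb (a • eb 0) (eb (Fin.last m))) := by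
      rw [← ha, hγ, MulAut.mul_apply, ← MulAut.mul_apply, inv_mul_cancel, MulAut.one_apply]
    rw [hβ, ← map_inv]
    induction g using QuotientGroup.induction_on with
    | H s =>
      rw [← QuotientGroup.mk_inv, conj_mk_eq_descend]
      apply isTb_descend_conjGL
      exact ⟨_, _, smul_ne_zero ha0 (eb_ne_zero _), eb_ne_zero _,
        by rw [dotProduct_smul, eb_dot_eb_of_ne (h0last hm1).symm, smul_zero], rfl⟩
  intro α x hx
  obtain ⟨v, φ, hv, hφ, h, rfl⟩ := hx
  obtain ⟨g, hg⟩ := exists_conjGL_tb (h0last hm1) hv hφ h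
  rw [hg, ← MulAut.mul_apply]
  exact key _

end Cfsg.Agent.Lib.Helper45.PSLAut
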